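import Cfsg.Agent.H869.EPO.Q2Geo

/-!
# S5745 / S3499, OWN characteristic, `q = 2`: rank three parabolic subgroups of root group data (helper869)

`cg_of` : `|X_i| = 2` and `W = W_J ∪ W_J s_i W_J ∪ w W_J`, `J = I - i`, give a `CG`.
`index_le_of` : `|G : H| ≤ n (n + 1)`, `n = |Y : P_{I - i}|`.
-/

set_option autoImplicit false
set_option linter.unusedSectionVars false

namespace Cfsg.Agent.H869.EPO

open Cfsg.Agent.H284 Cfsg.Agent.H209.EPX Cfsg.Agent.H737.EPO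
open CoxeterSystem Cfsg.Agent.ChevalleyStructure.CoxeterGeom Cfsg.Agent.Tits.Roots Cfsg.Agent.Tits.Core
  Cfsg.Agent.Tits.RootComb Cfsg.Agent.Tits.Exchange Cfsg.Agent.Nodes.Reps Cfsg.Agent.Nodes.BNOf
  Cfsg.Agent.Nodes.StabComb Cfsg.Agent.Nodes.Bruhat Cfsg.Agent.Nodes.OppDec Cfsg.Agent.Nodes.LeviDec
  Cfsg.Agent.Nodes.Coroot Cfsg.Agent.KFacts.RgdPar Cfsg.Agent.KFacts.RgdSL Cfsg.Agent.KFacts.RgdVJ
  Cfsg.Agent.KFacts.RgdCharP

theorem coatom {Y : Type*} [Group Y] {p : ℕ} {I : Type*} (S : PSys Y p I) (i : I) : IsCoatom (S.P {i}ᶜ) := by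
  constructor
  · exact S.P_ne_top (by rw [Ne, Set.compl_univ_iff]; exact Set.singleton_ne_empty i)
  · intro L hL
    obtain ⟨J, rfl⟩ := S.ov L ((S.P_mono (Set.empty_subset _)).trans hL.le)
    have h1 : {i}ᶜ ⊆ J := S.P_le_iff.1 hL.le
    have h2 : i ∈ J := by
      by_contra hi
      apply hL.not_ge
      rw [S.P_le_iff]
      intro j hj
      rw [Set.mem_compl_singleton_iff]
      rintro rfl
      exact hi hj
    have h3 : J = Set.univ := by
      rw [Set.eq_univ_iff_forall]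
      intro j
      by_cases hj : j = i
      · rw [hj]; exact h2
      · exact h1 hj
    rw [h3, S.P_univ]

section

variable {I W Y : Type*} [Fintype I] [DecidableEq I] [Group W] [Group Y] {M : CoxeterMatrix I}
  {cs : CoxeterSystem M W} {A : I → I → ℤ} {h : IsCartan M A} {p : ℕ} {T : Subgroup Y} {n : I → Y}
  {X : (I → ℤ) → Subgroup Y} (R : RGD cs h p T n X)

include R

/-- `P_i - B` -/
theorem mem_Pi [Finite W] {j : I} {z : Y} (hz : z ∈ PJ cs h T X {j}) (hzB : z ∉ RGD.B cs h T X) :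
    ∃ a ∈ X (sr j), ∃ b ∈ RGD.B cs h T X, z = a * n j * b := by
  obtain ⟨w, hwJ, b₁, hb₁, k, hk, b₂, hb₂, rfl⟩ := (mem_PJ_iff_cell R).1 hz
  rcases KFacts.RgdDiag.mem_WJ_singleton hwJ with h1 | h1
  · exfalso
    apply hzB
    rw [h1] at hk
    exact mul_mem (mul_mem hb₁ (RGD.T_le_B hk.mem_of_one)) hb₂
  · rw [h1] at hk
    obtain ⟨t, ht, u, hu, rfl⟩ := R.mem_B.1 hb₁
    have h2 : t * u * t⁻¹ ∈ RGD.Sup X (RGD.Pos cs h) :=
      (Subgroup.mem_normalizer_iff.1 (R.T_le_normalizer_U ht) u).1 hu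
    have h3 : (n j)⁻¹ * (t * k) ∈ T := by
      have h4 : Rp cs R.nsys (cs.simple j) (t * k) := by
        have := (rp_of_mem (cs := cs) (hN := R.nsys) ht).mul hk
        rwa [one_mul] at this
      have h5 := (rp_simple cs R.nsys j).inv.mul h4
      rw [inv_mul_cancel] at h5
      exact h5.mem_of_one
    obtain ⟨a, ha, v, hv, hav⟩ := (mem_U_iff R (J := {j})).1 h2
    rw [KFacts.RgdDiag.UJ_singleton] at ha
    have hn : n j ∈ PJ cs h T X {j} := LJ_le_PJ (n_mem_LJ R (Set.mem_singleton j))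
    have h4 : (n j)⁻¹ * v * (n j)⁻¹⁻¹ ∈ VJ cs h X {j} :=
      (Subgroup.mem_normalizer_iff.1 (PJ_le_normalizer_VJ R {j} (inv_mem hn)) v).1 hv
    rw [inv_inv] at h4
    refine ⟨a, ha, (n j)⁻¹ * v * n j * ((n j)⁻¹ * (t * k)) * b₂,
      mul_mem (mul_mem (RGD.U_le_B (VJ_le_U _ h4)) (RGD.T_le_B h3)) hb₂, ?_⟩
    have e1 : t * u * k * b₂ = (t * u * t⁻¹) * (t * k) * b₂ := by group
    rw [e1, hav]
    group

/-- **the coset geometry** -/
theorem cg_of [Finite W] [Finite Y] [Fact p.Prime] (hBT : BT cs h p T X) (hG : GG cs h T X = ⊤)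
    (hX : RGD.Sup X {x | IsRoot cs h x} = ⊤) (hconn : Conn M) {i : I} (hq : Nat.card (X (sr i)) = 2)
    (hW : ∃ w : W, ∀ v : W, v ∈ WJ cs {i}ᶜ ∨ (∃ a ∈ WJ cs {i}ᶜ, ∃ b ∈ WJ cs {i}ᶜ, v = a * cs.simple i * b) ∨
      ∃ b ∈ WJ cs {i}ᶜ, v = w * b) :
    ∃ s', CG ((ofRGD R hBT hG hX hconn).P {i}ᶜ) ((ofRGD R hBT hG hX hconn).P ∅) ((ofRGD R hBT hG hX hconn).P {i})
      (n i) s' := by
  set S := ofRGD R hBT hG hX hconn with hS
  have hB : S.P ∅ = RGD.B cs h T X := PJ_empty R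
  obtain ⟨x, hx, hx1⟩ : ∃ x ∈ X (sr i), x ≠ 1 := by
    by_contra hcon
    push Not at hcon
    exact X_ne_bot R (isRoot_sr cs h i) ((Subgroup.eq_bot_iff_forall _).2 hcon)
  have htwo : ∀ a ∈ X (sr i), a = 1 ∨ a = x := by
    intro a ha
    by_contra hcon
    push Not at hcon
    let f : Fin 3 → X (sr i) := ![⟨1, one_mem _⟩, ⟨x, hx⟩, ⟨a, ha⟩]
    have hf : Function.Injective f := by
      intro j k hjk
      have h1 : (f j : Y) = f k := congrArg Subtype.val hjk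
      fin_cases j <;> fin_cases k
      · rfl
      · exact absurd h1 (Ne.symm hx1)
      · exact absurd h1 (Ne.symm hcon.1)
      · exact absurd h1 hx1
      · rfl
      · exact absurd h1 (Ne.symm hcon.2)
      · exact absurd h1 hcon.1
      · exact absurd h1 hcon.2
      · rfl
    have : Finite (X (sr i)) := inferInstance
    have h2 := Nat.card_le_card_of_injective f hf
    rw [hq, Nat.card_fin] at h2
    omega
  have hxU : x ∈ RGD.Sup X (RGD.Pos cs h) := RGD.le_Sup (S := RGD.Pos cs h) ⟨isRoot_sr cs h i, sr_nonneg i⟩ hx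
  have hxB : x ∈ RGD.B cs h T X := RGD.U_le_B hxU
  have hnQ : n i ∈ S.P {i} := LJ_le_PJ (n_mem_LJ R (Set.mem_singleton i))
  have hnJ : ∀ L : Set I, n i ∈ PJ cs h T X L → i ∈ L := by
    intro L h2
    rw [cell_mem_PJ_iff R (cell_of_rp (rp_simple cs R.nsys i))] at h2
    exact (simple_mem_WJ_iff h).1 h2
  have hnB : n i ∉ RGD.B cs h T X := by
    rw [← PJ_empty R]
    exact fun h1 => hnJ ∅ h1
  have hTB : T ≤ RGD.B cs h T X := RGD.T_le_B
  have hdec : ∀ {v v' : W} {m m' : Y}, Rp cs R.nsys v m → Rp cs R.nsys v' m' → v = v' → m⁻¹ * m' ∈ T := by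
    intro v v' m m' h1 h2 h3
    subst h3
    have h5 := h1.inv.mul h2
    rw [inv_mul_cancel] at h5
    exact h5.mem_of_one
  obtain ⟨w, hw⟩ := hW
  obtain ⟨wd, hwd⟩ := exists_rp cs R.nsys w
  refine ⟨x * n i, coatom S i, S.P_mono (Set.empty_subset _), ?_, S.P_mono (Set.empty_subset _), hnQ, ?_, ?_, ?_, ?_,
    ?_, wd, ?_⟩
  · rw [S.P_inf, Set.inter_compl_self]
  · intro g hg
    rw [hB]
    by_cases hgB : g ∈ RGD.B cs h T X
    · exact Or.inl hgB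
    right
    obtain ⟨a, ha, b, hb, rfl⟩ := mem_Pi R hg hgB
    rcases htwo a ha with rfl | rfl
    · left
      have e1 : (n i)⁻¹ * (1 * n i * b) = b := by group
      rwa [e1]
    · right
      have e1 : (a * n i)⁻¹ * (a * n i * b) = b := by group
      rwa [e1]
  · rw [hB]; exact hnB
  · rw [hB]
    have h1 := (rp_simple cs R.nsys i).mul (rp_simple cs R.nsys i)
    rw [cs.simple_mul_simple_self] at h1
    exact hTB h1.mem_of_one
  · exact ⟨x, by rw [hB]; exact hxB, rfl⟩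
  · rw [hB]
    intro h1
    have h2 : (n i)⁻¹ * x * (n i)⁻¹⁻¹ ∈ X (rep cs h (cs.simple i)⁻¹ (sr i)) := by
      rw [← R.conj_rp (rp_simple cs R.nsys i).inv (isRoot_sr cs h i)]
      exact ⟨x, hx, rfl⟩
    rw [inv_inv] at h2
    have h3 : (n i)⁻¹ * x * n i ∈ UN cs h X := by
      apply RGD.le_Sup _ h2
      have h4 : rep cs h (cs.simple i)⁻¹ (sr i) = - sr i := by
        rw [cs.inv_simple, rep_simple_sr]
      rw [h4]
      exact ⟨(isRoot_sr cs h i).neg, by rw [neg_nonpos]; exact sr_nonneg i⟩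
    have e1 : (n i)⁻¹ * (x * n i) = (n i)⁻¹ * x * n i := by group
    rw [e1] at h1
    have h4 := eq_one_of_mem_UN_of_mem_B R h3 h1
    apply hx1
    have e2 : x = n i * ((n i)⁻¹ * x * n i) * (n i)⁻¹ := by group
    rw [e2, h4]
    group
  · intro g
    have hBP : RGD.B cs h T X ≤ S.P {i}ᶜ := B_le_PJ
    obtain ⟨v, b, hb, m, hm, b', hb', rfl⟩ := (mem_GG R).1 (show g ∈ GG cs h T X by rw [hG]; trivial)
    have hJ : ∀ {u : W} {m : Y}, u ∈ WJ cs {i}ᶜ → Rp cs R.nsys u m → m ∈ S.P {i}ᶜ := fun hu hm =>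
      LJ_le_PJ (rp_mem_LJ R hu hm)
    rcases hw v with h1 | ⟨a₁, ha₁, a₂, ha₂, h1⟩ | ⟨a₁, ha₁, h1⟩
    · left; left
      exact mul_mem (mul_mem (hBP hb) (hJ h1 hm)) (hBP hb')
    · left; right
      obtain ⟨c₁, hc₁⟩ := exists_rp cs R.nsys a₁
      obtain ⟨c₂, hc₂⟩ := exists_rp cs R.nsys a₂
      have h2 := hdec ((hc₁.mul (rp_simple cs R.nsys i)).mul hc₂) hm h1.symm
      refine ⟨b * c₁, mul_mem (hBP hb) (hJ ha₁ hc₁), c₂ * ((c₁ * n i * c₂)⁻¹ * m) * b',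
        mul_mem (mul_mem (hJ ha₂ hc₂) (hBP (hTB h2))) (hBP hb'), ?_⟩
      group
    · right
      obtain ⟨c₁, hc₁⟩ := exists_rp cs R.nsys a₁
      have h2 := hdec (hwd.mul hc₁) hm h1.symm
      refine ⟨b, by rw [hB]; exact hb, c₁ * ((wd * c₁)⁻¹ * m) * b',
        mul_mem (mul_mem (hJ ha₁ hc₁) (hBP (hTB h2))) (hBP hb'), ?_⟩
      group

end

/-- **The index** in the state `Q2` for a root group datum. -/
theorem index_le_of {I W G Y : Type*} [Fintype I] [DecidableEq I] [Group W] [Group Y] {M : CoxeterMatrix I}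
    {cs : CoxeterSystem M W} {A : I → I → ℤ} {h : IsCartan M A} {T : Subgroup Y} {n : I → Y}
    {X : (I → ℤ) → Subgroup Y} (R : RGD cs h 2 T n X) [Finite W] [Finite Y]
    (hBT : BT cs h 2 T X) (hG : GG cs h T X = ⊤) (hX : RGD.Sup X {x | IsRoot cs h x} = ⊤) (hconn : Conn M)
    [Group G] [Finite G] [IsSimpleGroup Y] (hY : ∃ a b : Y, a * b ≠ b * a) {H N R' : Subgroup G}
    {e : N ≃* (Fin 1 → Y)} {i : I} {t : G} [Fact (Nat.Prime 2)] (q : Q2 H R' e (ofRGD R hBT hG hX hconn) i t)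
    (hi : ({i} : Set I) ≠ Set.univ)
    (hW : ∃ w : W, ∀ v : W, v ∈ WJ cs {i}ᶜ ∨ (∃ a ∈ WJ cs {i}ᶜ, ∃ b ∈ WJ cs {i}ᶜ, v = a * cs.simple i * b) ∨
      ∃ b ∈ WJ cs {i}ᶜ, v = w * b) :
    H.index ≤ (PJ cs h T X {i}ᶜ).index * ((PJ cs h T X {i}ᶜ).index + 1) := by
  have hq : Nat.card (X (sr i)) = 2 := by
    rw [← relIndex_ofRGD R hBT hG hX hconn i]
    exact q.idx
  obtain ⟨s', c⟩ := cg_of R hBT hG hX hconn hq hW
  have h1 := index_le hY q c hi
  have h2 : (ofRGD R hBT hG hX hconn).P {i}ᶜ = PJ cs h T X {i}ᶜ := rfl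
  rwa [h2] at h1

end Cfsg.Agent.H869.EPO
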