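import Cfsg.Agent.H284.EP.Basic

/-!
# S5745 / S3499, OWN characteristic, `q = 2`: local geometry (helper869)

`Loc G a perp L b` : the neighbours of the vertex `a` are labelled by the points of a space `P` of order two
(lines `L x y z` have three points) with the "one or all" axiom, planes `{a, b x, b y, b z}` are flipped by `G`.

* `Loc.diam` : the orbital graph has diameter at most two;
* `Loc.card_le` : at most `n (n + 1)` vertices, `n` the number of points.
-/

set_option autoImplicit false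
set_option linter.unusedSectionVars false

namespace Cfsg.Agent.H869.EPO

open Cfsg.Agent.H284 MulAction

section Loc

variable (G : Type*) [Group G] {Ω : Type*} [MulAction G Ω] (a : Ω) {P : Type*} (perp : P → P → Prop)
  (L : P → P → P → Prop) (b : P → Ω)

/-- the orbital graph -/
def Adj (x y : Ω) : Prop := ∃ (g : G) (p : P), g • a = x ∧ g • b p = y

/-- local data -/
structure Loc : Prop where
  inj : Function.Injective b
  ne : ∀ x, b x ≠ a
  stab : ∀ g : G, g • a = a → ∀ x, ∃ y, g • b x = b y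
  sym : ∀ x, ∃ (g : G) (y : P), g • a = b x ∧ g • b y = a
  refl : ∀ x, perp x x
  perp_symm : ∀ x y, perp x y → perp y x
  line : ∀ x y, x ≠ y → perp x y → ∃ z, L x y z
  flip : ∀ x y z, L x y z → ∃ g : G, g • a = b x ∧ g • b x = a ∧ g • b y = b z ∧ g • b z = b y
  oa : ∀ x y z u, L x y z → ¬ perp u x → (perp u y ∧ ¬ perp u z) ∨ (¬ perp u y ∧ perp u z)

end Loc

namespace Loc

variable {G : Type*} [Group G] {Ω : Type*} [MulAction G Ω] {a : Ω} {P : Type*} {perp : P → P → Prop}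
  {L : P → P → P → Prop} {b : P → Ω}

local notation "A" => Adj G a b

theorem adj_smul {x y : Ω} (g : G) (h : A x y) : A (g • x) (g • y) := by
  obtain ⟨k, p, rfl, rfl⟩ := h
  exact ⟨g * k, p, mul_smul _ _ _, mul_smul _ _ _⟩

theorem adj_smul_iff {x y : Ω} (g : G) : A (g • x) (g • y) ↔ A x y := by
  refine ⟨fun h => ?_, adj_smul g⟩
  have := adj_smul g⁻¹ h
  rwa [inv_smul_smul, inv_smul_smul] at this

variable (l : Loc G a perp L b)

include l

theorem adj_a {y : Ω} : A a y ↔ ∃ x, y = b x := by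
  constructor
  · rintro ⟨g, p, h1, rfl⟩
    exact l.stab g h1 p
  · rintro ⟨x, rfl⟩
    exact ⟨1, x, one_smul _ _, one_smul _ _⟩

theorem adj_b (x : P) : A a (b x) := l.adj_a.2 ⟨x, rfl⟩

theorem symm {x y : Ω} (h : A x y) : A y x := by
  obtain ⟨k, p, rfl, rfl⟩ := h
  rw [adj_smul_iff]
  obtain ⟨g, y, h1, h2⟩ := l.sym p
  exact ⟨g, y, h1, h2⟩

theorem ne_of_adj {x y : Ω} (h : A x y) : x ≠ y := by
  obtain ⟨k, p, rfl, rfl⟩ := h
  exact fun e => l.ne p (smul_left_cancel k e).symm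

/-- collinear points are adjacent -/
theorem adj_of_perp {x y : P} (hxy : x ≠ y) (h : perp x y) : A (b x) (b y) := by
  obtain ⟨z, hz⟩ := l.line x y hxy h
  obtain ⟨g, h1, h2, h3, h4⟩ := l.flip x y z hz
  rw [← h1, ← h4, adj_smul_iff]
  exact l.adj_b z

/-- planes -/
theorem five (hadj : ∀ x y, x ≠ y → A (b x) (b y) → perp x y) {x y z : P} (hL : L x y z) {c : Ω} (hc : c ≠ a)
    (hac : ¬ A a c) (hxc : A (b x) c) : (A c (b y) ∧ ¬ A c (b z)) ∨ (¬ A c (b y) ∧ A c (b z)) := by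
  obtain ⟨g, h1, h2, h3, h4⟩ := l.flip x y z hL
  -- `c = g • b u`
  rw [← h1] at hxc
  obtain ⟨u, hu⟩ : ∃ u, c = g • b u := by
    have h5 := adj_smul g⁻¹ hxc
    rw [inv_smul_smul] at h5
    obtain ⟨u, hu⟩ := l.adj_a.1 h5
    exact ⟨u, by rw [← hu, smul_inv_smul]⟩
  have hux : u ≠ x := by
    rintro rfl
    exact hc (hu.trans h2)
  have h6 : ¬ perp u x := by
    intro h7
    apply hac
    have h8 : A (g • b x) (g • b u) := adj_smul g (l.symm (l.adj_of_perp hux h7))
    rwa [h2, ← hu] at h8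
  have key : ∀ v, u ≠ v → (A c (g • b v) ↔ perp u v) := by
    intro v huv
    rw [hu, adj_smul_iff]
    exact ⟨hadj u v huv, l.adj_of_perp huv⟩
  have hself : ∀ v, u = v → ¬ A c (g • b v) := by
    rintro v rfl h7
    rw [hu] at h7
    exact l.ne_of_adj h7 rfl
  -- `u` is not on the line
  obtain ⟨g', h1', h2', h3', h4'⟩ := l.flip x y z hL
  have hxy : A (b x) (b y) := by
    rw [← h1, ← h4, adj_smul_iff]
    exact l.adj_b z
  have hxz : A (b x) (b z) := by
    rw [← h1, ← h3, adj_smul_iff]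
    exact l.adj_b y
  have huy : u ≠ y := by
    rintro rfl
    apply h6
    exact l.perp_symm _ _ (hadj _ _ (Ne.symm hux) hxy)
  have huz : u ≠ z := by
    rintro rfl
    apply h6
    exact l.perp_symm _ _ (hadj _ _ (Ne.symm hux) hxz)
  have h7 := key y huy
  have h8 := key z huz
  rw [h3] at h7
  rw [h4] at h8
  rw [h7, h8]
  rcases l.oa x y z u hL h6 with h9 | h9
  · exact Or.inr ⟨h9.2, h9.1⟩
  · exact Or.inl ⟨h9.2, h9.1⟩

/-- no vertex at distance three -/
theorem no_far (hadj : ∀ x y, x ≠ y → A (b x) (b y) → perp x y)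
    (conn : ∀ (e : P) (S : Set P), S.Nonempty → (∀ x ∈ S, ¬ perp e x) →
      (∀ x ∈ S, ∀ z, ¬ perp e z → perp x z → z ∈ S) → ∀ z, ¬ perp e z → z ∈ S)
    (oinj : ∀ e e' : P, (∃ x, ¬ perp e x) → (∀ x, perp e x ↔ perp e' x) → e = e')
    (hep : ∀ (c : Ω) (e : P), c ≠ a → (∀ g : G, g • a = a → g • c = c → g • b e = b e) → c = b e)
    {c : Ω} (hc : c ≠ a) (hac : ¬ A a c) {e x₀ : P} (h0 : A c (b x₀)) (h1 : ¬ A c (b e))
    (h2 : ∀ w, A c w → ¬ A (b e) w) : False := by
  let S : Set P := {x | A c (b x)}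
  have hS1 : ∀ x ∈ S, ¬ perp e x := by
    intro x hx h3
    have hne : e ≠ x := by
      rintro rfl
      exact h1 hx
    exact h2 _ hx (l.adj_of_perp hne h3)
  have hS2 : ∀ x ∈ S, ∀ z, ¬ perp e z → perp x z → z ∈ S := by
    intro x hx z hz hxz
    by_cases hne : x = z
    · rwa [← hne]
    obtain ⟨z', hz'⟩ := l.line x z hne hxz
    have h3 : perp e z' := by
      rcases l.oa x z z' e hz' (hS1 x hx) with h4 | h4
      · exact absurd h4.1 hz
      · exact h4.2
    have h4 : ¬ A c (b z') := by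
      intro h5
      exact hS1 z' h5 h3
    rcases l.five hadj hz' hc hac (l.symm hx) with h5 | h5
    · exact h5.1
    · exact absurd h5.2 h4
  have hS3 := conn e S ⟨x₀, h0⟩ hS1 hS2
  have hS : ∀ x, A c (b x) ↔ ¬ perp e x := fun x => ⟨hS1 x, hS3 x⟩
  have h5 : c = b e := by
    apply hep c e hc
    intro g hga hgc
    obtain ⟨e', he'⟩ := l.stab g hga e
    have hpe : ∀ x x', g • b x = b x' → (perp e x ↔ perp e' x') := by
      intro x x' hx
      by_cases hne : e = x
      · subst hne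
        have : e' = x' := l.inj (he'.symm.trans hx)
        subst this
        exact ⟨fun _ => l.refl _, fun _ => l.refl _⟩
      · have hne' : e' ≠ x' := by
          rintro rfl
          exact hne (l.inj (smul_left_cancel g (he'.trans hx.symm)))
        have h6 : A (b e) (b x) ↔ A (b e') (b x') := by rw [← he', ← hx, adj_smul_iff]
        constructor
        · intro h7
          exact hadj _ _ hne' (h6.1 (l.adj_of_perp hne h7))
        · intro h7
          exact hadj _ _ hne (h6.2 (l.adj_of_perp hne' h7))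
    have hall : ∀ x', ∃ x, g • b x = b x' := by
      intro x'
      have hga' : g⁻¹ • a = a := by rw [inv_smul_eq_iff, hga]
      obtain ⟨x, hx⟩ := l.stab g⁻¹ hga' x'
      exact ⟨x, by rw [← hx, smul_inv_smul]⟩
    have h6 : e = e' := by
      apply oinj e e' ⟨x₀, hS1 x₀ h0⟩
      intro x'
      obtain ⟨x, hx⟩ := hall x'
      have h7 := hS x
      have h8 := hS x'
      have h9 : A c (b x) ↔ A c (b x') := by
        rw [← hx]
        conv_rhs => rw [← hgc]
        exact (adj_smul_iff g).symm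
      have h10 := hpe x x' hx
      tauto
    rw [he', h6]
  exact hac (h5 ▸ l.adj_b e)

/-- the orbital graph has diameter at most two -/
theorem diam (hmax : ∀ K : Subgroup G, (∀ g : G, g • a = a → g ∈ K) → (∃ g ∈ K, g • a ≠ a) → K = ⊤)
    [IsPretransitive G Ω] [Nonempty P] (hadj : ∀ x y, x ≠ y → A (b x) (b y) → perp x y)
    (conn : ∀ (e : P) (S : Set P), S.Nonempty → (∀ x ∈ S, ¬ perp e x) →
      (∀ x ∈ S, ∀ z, ¬ perp e z → perp x z → z ∈ S) → ∀ z, ¬ perp e z → z ∈ S)
    (oinj : ∀ e e' : P, (∃ x, ¬ perp e x) → (∀ x, perp e x ↔ perp e' x) → e = e')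
    (hep : ∀ (c : Ω) (e : P), c ≠ a → (∀ g : G, g • a = a → g • c = c → g • b e = b e) → c = b e) (z : Ω) :
    z = a ∨ A a z ∨ ∃ y, A a y ∧ A y z := by
  let S : Set Ω := {z | z = a ∨ A a z ∨ ∃ y, A a y ∧ A y z}
  have hclosed : ∀ x ∈ S, ∀ y, A x y → y ∈ S := by
    intro x hx y hxy
    by_cases hxa : x = a
    · exact Or.inr (Or.inl (hxa ▸ hxy))
    by_cases hax : A a x
    · exact Or.inr (Or.inr ⟨x, hax, hxy⟩)
    rcases hx with hx | hx | ⟨w, hw1, hw2⟩
    · exact absurd hx hxa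
    · exact absurd hx hax
    by_contra hy
    have hya : y ≠ a := fun e => hy (Or.inl e)
    have hay : ¬ A a y := fun e => hy (Or.inr (Or.inl e))
    have hayw : ∀ w, A a w → ¬ A y w := fun w h1 h2 => hy (Or.inr (Or.inr ⟨w, h1, l.symm h2⟩))
    obtain ⟨g, e, hg1, hg2⟩ := hxy
    have t1 : ∀ u v, A (g⁻¹ • u) (g⁻¹ • v) ↔ A u v := fun u v => adj_smul_iff g⁻¹
    have e1 : g⁻¹ • x = a := by rw [← hg1, inv_smul_smul]
    have e2 : g⁻¹ • y = b e := by rw [← hg2, inv_smul_smul]
    -- `w = g • b x₀`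
    obtain ⟨x₀, hx₀⟩ : ∃ x₀, g⁻¹ • w = b x₀ := by
      have := (t1 x w).2 (l.symm hw2)
      rw [e1] at this
      exact l.adj_a.1 this
    refine l.no_far hadj conn oinj hep (c := g⁻¹ • a) (e := e) (x₀ := x₀) ?_ ?_ ?_ ?_ ?_
    · intro h3
      exact hxa (smul_left_cancel g⁻¹ (e1.trans h3.symm))
    · intro h3
      have h4 : A (g⁻¹ • x) (g⁻¹ • a) := by
        rw [e1]
        exact h3
      exact hax (l.symm ((t1 _ _).1 h4))
    · rw [← hx₀, t1]
      exact hw1
    · rw [← e2, t1]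
      exact hay
    · intro v hv1 hv2
      apply hayw (g • v)
      · have := adj_smul g hv1
        rwa [smul_inv_smul] at this
      · have := adj_smul g hv2
        rwa [← e2, smul_inv_smul] at this
  -- everything in `S` is connected to `a`
  have hstep : ∀ g : G, g • a ∈ S → ∀ x ∈ S, g • x ∈ S := by
    intro g hg x hx
    rcases hx with rfl | hx | ⟨y, h1, h2⟩
    · exact hg
    · exact hclosed _ hg _ (adj_smul g hx)
    · exact hclosed _ (hclosed _ hg _ (adj_smul g h1)) _ (adj_smul g h2)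
  have hstab : ∀ g : G, g • a ∈ S → g⁻¹ • a ∈ S := by
    intro g hg
    rcases hg with hg | hg | ⟨y, h1, h2⟩
    · left
      rw [inv_smul_eq_iff, hg]
    · right; left
      have := adj_smul g⁻¹ (l.symm hg)
      rwa [inv_smul_smul] at this
    · right; right
      refine ⟨g⁻¹ • y, ?_, adj_smul g⁻¹ (l.symm h1)⟩
      have := adj_smul g⁻¹ (l.symm h2)
      rwa [inv_smul_smul] at this
  let K : Subgroup G :=
    { carrier := {g | g • a ∈ S}
      one_mem' := by
        show (1 : G) • a ∈ S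
        rw [one_smul]
        exact Or.inl rfl
      mul_mem' := by
        intro g k hg hk
        show (g * k) • a ∈ S
        rw [mul_smul]
        exact hstep g hg _ hk
      inv_mem' := by
        intro g hg
        exact hstab g hg }
  have hK : K = ⊤ := by
    apply hmax K
    · intro g hg
      show g • a ∈ S
      rw [hg]
      exact Or.inl rfl
    · obtain ⟨p⟩ := ‹Nonempty P›
      obtain ⟨g, y, h1, h2⟩ := l.sym p
      refine ⟨g, ?_, ?_⟩
      · show g • a ∈ S
        rw [h1]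
        exact Or.inr (Or.inl (l.adj_b p))
      · rw [h1]
        exact l.ne p
  obtain ⟨g, rfl⟩ := IsPretransitive.exists_smul_eq (M := G) a z
  have : g ∈ K := by
    rw [hK]
    exact Subgroup.mem_top g
  exact this

/-- `A` complete on the neighbours: one more vertex only -/
theorem complete [Finite P] (hmax : ∀ K : Subgroup G, (∀ g : G, g • a = a → g ∈ K) → (∃ g ∈ K, g • a ≠ a) → K = ⊤)
    [IsPretransitive G Ω] [Nonempty P] (hadj : ∀ x y, x ≠ y → A (b x) (b y)) (z : Ω) : z = a ∨ A a z := by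
  let S : Set Ω := {z | z = a ∨ A a z}
  -- the neighbours of `b p`
  have hnb : ∀ p y, A (b p) y → y ∈ S := by
    intro p y hy
    obtain ⟨g, y₀, h1, h2⟩ := l.sym p
    obtain ⟨u, hu⟩ : ∃ u, g⁻¹ • y = b u := by
      have h3 := adj_smul g⁻¹ hy
      rw [← h1, inv_smul_smul] at h3
      exact l.adj_a.1 h3
    -- the map `x ↦ g⁻¹ • b x`, `p ↦ g⁻¹ • a`
    classical
    have hf : ∀ x : P, ∃ u : P, g⁻¹ • (if x = p then a else b x) = b u := by
      intro x
      split_ifs with hx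
      · have h3 := adj_smul g⁻¹ (l.symm (l.adj_b p))
        rw [← h1, inv_smul_smul] at h3
        exact l.adj_a.1 h3
      · have h3 := adj_smul g⁻¹ (hadj p x (Ne.symm hx))
        rw [← h1, inv_smul_smul] at h3
        exact l.adj_a.1 h3
    choose f hf using hf
    have hinj : Function.Injective f := by
      intro x x' hxx
      have h3 : (if x = p then a else b x) = (if x' = p then a else b x') := by
        apply smul_left_cancel g⁻¹
        rw [hf, hf, hxx]
      split_ifs at h3 with h4 h5 h5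
      · rw [h4, h5]
      · exact absurd h3.symm (l.ne x')
      · exact absurd h3 (l.ne x)
      · exact l.inj h3
    obtain ⟨x, hx⟩ := (Finite.injective_iff_surjective.1 hinj) u
    have h3 := hf x
    rw [hx, ← hu] at h3
    have h4 := smul_left_cancel g⁻¹ h3
    rw [← h4]
    split_ifs
    · exact Or.inl rfl
    · exact Or.inr (l.adj_b x)
  have hclosed : ∀ x ∈ S, ∀ y, A x y → y ∈ S := by
    rintro x (rfl | hx) y hxy
    · exact Or.inr hxy
    · obtain ⟨p, rfl⟩ := l.adj_a.1 hx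
      exact hnb p y hxy
  have hstep : ∀ g : G, g • a ∈ S → ∀ x ∈ S, g • x ∈ S := by
    intro g hg x hx
    rcases hx with rfl | hx
    · exact hg
    · exact hclosed _ hg _ (adj_smul g hx)
  have hstab : ∀ g : G, g • a ∈ S → g⁻¹ • a ∈ S := by
    intro g hg
    rcases hg with hg | hg
    · left
      rw [inv_smul_eq_iff, hg]
    · right
      have := adj_smul g⁻¹ (l.symm hg)
      rwa [inv_smul_smul] at this
  let K : Subgroup G :=
    { carrier := {g | g • a ∈ S}
      one_mem' := by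
        show (1 : G) • a ∈ S
        rw [one_smul]
        exact Or.inl rfl
      mul_mem' := by
        intro g k hg hk
        show (g * k) • a ∈ S
        rw [mul_smul]
        exact hstep g hg _ hk
      inv_mem' := by
        intro g hg
        exact hstab g hg }
  have hK : K = ⊤ := by
    apply hmax K
    · intro g hg
      show g • a ∈ S
      rw [hg]
      exact Or.inl rfl
    · obtain ⟨p⟩ := ‹Nonempty P›
      obtain ⟨g, y, h1, h2⟩ := l.sym p
      refine ⟨g, ?_, ?_⟩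
      · show g • a ∈ S
        rw [h1]
        exact Or.inr (l.adj_b p)
      · rw [h1]
        exact l.ne p
  obtain ⟨g, rfl⟩ := IsPretransitive.exists_smul_eq (M := G) a z
  have : g ∈ K := by
    rw [hK]
    exact Subgroup.mem_top g
  exact this

theorem card_complete [Finite P]
    (hmax : ∀ K : Subgroup G, (∀ g : G, g • a = a → g ∈ K) → (∃ g ∈ K, g • a ≠ a) → K = ⊤)
    [IsPretransitive G Ω] [Nonempty P] (hadj : ∀ x y, x ≠ y → A (b x) (b y)) : Nat.card Ω = Nat.card P + 1 := by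
  have h1 := l.complete hmax hadj
  let f : Option P → Ω := fun o => o.elim a b
  have hf : Function.Bijective f := by
    constructor
    · rintro (_ | x) (_ | y) hxy
      · rfl
      · exact absurd hxy.symm (l.ne y)
      · exact absurd hxy (l.ne x)
      · exact congrArg some (l.inj hxy)
    · intro z
      rcases h1 z with rfl | h2
      · exact ⟨none, rfl⟩
      · obtain ⟨x, rfl⟩ := l.adj_a.1 h2
        exact ⟨some x, rfl⟩
  rw [← Nat.card_congr (Equiv.ofBijective f hf), Finite.card_option]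

theorem card_le [Finite P] (hmax : ∀ K : Subgroup G, (∀ g : G, g • a = a → g ∈ K) → (∃ g ∈ K, g • a ≠ a) → K = ⊤)
    [IsPretransitive G Ω] [Nonempty P]
    (dich : (∀ x y, x ≠ y → A (b x) (b y)) ∨ (∀ x y, x ≠ y → A (b x) (b y) → perp x y))
    (conn : ∀ (e : P) (S : Set P), S.Nonempty → (∀ x ∈ S, ¬ perp e x) →
      (∀ x ∈ S, ∀ z, ¬ perp e z → perp x z → z ∈ S) → ∀ z, ¬ perp e z → z ∈ S)
    (oinj : ∀ e e' : P, (∃ x, ¬ perp e x) → (∀ x, perp e x ↔ perp e' x) → e = e')
    (hep : ∀ (c : Ω) (e : P), c ≠ a → (∀ g : G, g • a = a → g • c = c → g • b e = b e) → c = b e) :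
    Nat.card Ω ≤ Nat.card P * (Nat.card P + 1) := by
  have hpos : 0 < Nat.card P := Nat.card_pos
  rcases dich with hadj | hadj
  · rw [l.card_complete hmax hadj]
    nlinarith
  have h1 := l.diam hmax hadj conn oinj hep
  choose γ σ hγ hσ using l.sym
  let f : P × Option P → Ω := fun q => q.2.elim (b q.1) (fun x => γ q.1 • b x)
  have hnb : ∀ x y, A (b x) y → ∃ q, f q = y := by
    intro x y hy
    have h2 := adj_smul (γ x)⁻¹ hy
    rw [← hγ x, inv_smul_smul] at h2
    obtain ⟨u, hu⟩ := l.adj_a.1 h2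
    exact ⟨(x, some u), by
      show γ x • b u = y
      rw [← hu, smul_inv_smul]⟩
  have hf : Function.Surjective f := by
    intro z
    rcases h1 z with rfl | h2 | ⟨y, h2, h3⟩
    · obtain ⟨p⟩ := ‹Nonempty P›
      exact hnb p z (l.symm (l.adj_b p))
    · obtain ⟨x, rfl⟩ := l.adj_a.1 h2
      exact ⟨(x, none), rfl⟩
    · obtain ⟨x, rfl⟩ := l.adj_a.1 h2
      exact hnb x z h3
  have h2 := Nat.card_le_card_of_surjective f hf
  rwa [Nat.card_prod, Finite.card_option] at h2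

end Loc

/-! ## The group form -/

section TGeo

variable {G : Type*} [Group G]

/-- The points of `P` are the `T`-conjugates of the point stabiliser `T ∩ H^t`, the lines come from the panel
relations `t s t ∈ s' t H`. -/
structure TGeo (H T : Subgroup G) (t : G) {P : Type*} (ρ : T →* Equiv.Perm P) (p₀ : P) (perp : P → P → Prop)
    (L : P → P → P → Prop) : Prop where
  ep : EP H
  TH : T ≤ H
  tH : t ∉ H
  tt : t * t ∈ H
  line2 : ∀ x, H ⊓ cj t H ≤ cj x H → x ∈ H ∨ t⁻¹ * x ∈ H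
  fac : ∀ h ∈ H, ∃ g ∈ T, g⁻¹ * h ∈ cj t H
  trans : ∀ x : P, ∃ g : T, ρ g p₀ = x
  stab : ∀ g : T, ρ g p₀ = p₀ ↔ (g : G) ∈ cj t H
  refl : ∀ x, perp x x
  perp_symm : ∀ x y, perp x y → perp y x
  inv : ∀ (g : T) x y, perp x y → perp (ρ g x) (ρ g y)
  line : ∀ x y, x ≠ y → perp x y → ∃ z, L x y z
  oa : ∀ x y z u, L x y z → ¬ perp u x → (perp u y ∧ ¬ perp u z) ∨ (¬ perp u y ∧ perp u z)
  pan : ∀ x y z, L x y z → ∃ g s s' : T, x = ρ g p₀ ∧ y = ρ (g * s) p₀ ∧ z = ρ (g * s') p₀ ∧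
    ((s' : G) * t)⁻¹ * (t * s * t) ∈ H ∧ ((s : G) * t)⁻¹ * (t * s' * t) ∈ H
  opp : ∀ x y, ¬ perp p₀ x → ¬ perp p₀ y → ∃ g : T, ρ g p₀ = p₀ ∧ ρ g x = y

namespace TGeo

variable {H T : Subgroup G} {t : G} {P : Type*} {ρ : T →* Equiv.Perm P} {p₀ : P} {perp : P → P → Prop}
    {L : P → P → P → Prop} (h : TGeo H T t ρ p₀ perp L)

include h

/-- the vertices -/
noncomputable def b (x : P) : G ⧸ H := (((h.trans x).choose : G) * t : G)

theorem b_eq (g : T) : h.b (ρ g p₀) = (((g : G) * t : G) : G ⧸ H) := by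
  have h1 := (h.trans (ρ g p₀)).choose_spec
  have h2 : (((h.trans (ρ g p₀)).choose⁻¹ * g : T) : G) ∈ cj t H := by
    rw [← h.stab, map_mul, Equiv.Perm.mul_apply, map_inv, Equiv.Perm.inv_eq_iff_eq]
    exact h1.symm
  apply QuotientGroup.eq.2
  rw [mem_cj] at h2
  have e : ((((h.trans (ρ g p₀)).choose : T) : G) * t)⁻¹ * ((g : G) * t) =
    t⁻¹ * (((h.trans (ρ g p₀)).choose⁻¹ * g : T) : G) * t := by
    push_cast
    group
  rw [e]
  exact h2

theorem smul_b (g : T) (x : P) : (g : G) • h.b x = h.b (ρ g x) := by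
  obtain ⟨k, rfl⟩ := h.trans x
  rw [h.b_eq, ← Equiv.Perm.mul_apply, ← map_mul, h.b_eq]
  show (((g : G) * ((k : G) * t) : G) : G ⧸ H) = _
  congr 1
  push_cast
  group

omit h in
theorem smul_one_eq {g : G} : g • ((1 : G) : G ⧸ H) = ((1 : G) : G ⧸ H) ↔ g ∈ H := by
  show ((g * 1 : G) : G ⧸ H) = _ ↔ _
  rw [mul_one, QuotientGroup.eq, mul_one, inv_mem_iff]

omit h in
theorem smul_eq_iff {g x : G} : g • ((x : G) : G ⧸ H) = ((x : G) : G ⧸ H) ↔ g ∈ cj x H := by
  show ((g * x : G) : G ⧸ H) = _ ↔ _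
  rw [eq_comm, QuotientGroup.eq, mem_cj, mul_assoc]

theorem loc : Loc G ((1 : G) : G ⧸ H) perp L h.b where
  inj := by
    intro x y hxy
    obtain ⟨g, rfl⟩ := h.trans x
    obtain ⟨k, rfl⟩ := h.trans y
    rw [h.b_eq, h.b_eq] at hxy
    have h1 := QuotientGroup.eq.1 hxy
    have h2 : ((g⁻¹ * k : T) : G) ∈ cj t H := by
      rw [mem_cj]
      have e : t⁻¹ * ((g⁻¹ * k : T) : G) * t = ((g : G) * t)⁻¹ * ((k : G) * t) := by
        push_cast
        group
      rw [e]
      exact h1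
    rw [← h.stab, map_mul, Equiv.Perm.mul_apply, map_inv, Equiv.Perm.inv_eq_iff_eq] at h2
    exact h2.symm
  ne := by
    intro x hx
    obtain ⟨g, rfl⟩ := h.trans x
    rw [h.b_eq] at hx
    have h1 := QuotientGroup.eq.1 hx.symm
    rw [inv_one, one_mul] at h1
    exact h.tH ((H.mul_mem_cancel_left (h.TH g.2)).1 h1)
  stab := by
    intro g hg x
    obtain ⟨k, rfl⟩ := h.trans x
    have h1 : g * k ∈ H := H.mul_mem (smul_one_eq.1 hg) (h.TH k.2)
    obtain ⟨g', hg', h2⟩ := h.fac _ h1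
    refine ⟨ρ ⟨g', hg'⟩ p₀, ?_⟩
    rw [h.b_eq, h.b_eq]
    show ((g * ((k : G) * t) : G) : G ⧸ H) = _
    rw [eq_comm, QuotientGroup.eq]
    rw [mem_cj] at h2
    have e : (g' * t)⁻¹ * (g * ((k : G) * t)) = t⁻¹ * (g'⁻¹ * (g * k)) * t := by group
    show (g' * t)⁻¹ * (g * ((k : G) * t)) ∈ H
    rw [e]
    exact h2
  sym := by
    intro x
    obtain ⟨g, rfl⟩ := h.trans x
    refine ⟨g * t, p₀, ?_, ?_⟩
    · rw [h.b_eq]
      show (((g : G) * t * 1 : G) : G ⧸ H) = _
      rw [mul_one]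
    · have h1 := h.b_eq 1
      rw [map_one, Equiv.Perm.one_apply] at h1
      rw [h1]
      show (((g : G) * t * (((1 : T) : G) * t) : G) : G ⧸ H) = _
      rw [eq_comm, QuotientGroup.eq, inv_one, one_mul]
      have e : (g : G) * t * (((1 : T) : G) * t) = g * (t * t) := by
        push_cast
        group
      rw [e]
      exact H.mul_mem (h.TH g.2) h.tt
  refl := h.refl
  perp_symm := h.perp_symm
  line := h.line
  flip := by
    intro x y z hL
    obtain ⟨g, s, s', rfl, rfl, rfl, h1, h2⟩ := h.pan x y z hL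
    refine ⟨g * t * (g : G)⁻¹, ?_, ?_, ?_, ?_⟩
    · rw [h.b_eq]
      show (((g : G) * t * (g : G)⁻¹ * 1 : G) : G ⧸ H) = _
      rw [eq_comm, QuotientGroup.eq]
      have e : ((g : G) * t)⁻¹ * ((g : G) * t * (g : G)⁻¹ * 1) = (g : G)⁻¹ := by group
      rw [e]
      exact H.inv_mem (h.TH g.2)
    · rw [h.b_eq]
      show (((g : G) * t * (g : G)⁻¹ * (g * t) : G) : G ⧸ H) = _
      rw [eq_comm, QuotientGroup.eq]
      have e : (1 : G)⁻¹ * ((g : G) * t * (g : G)⁻¹ * (g * t)) = (g : G) * (t * t) := by group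
      rw [e]
      exact H.mul_mem (h.TH g.2) h.tt
    · rw [h.b_eq, h.b_eq]
      show (((g : G) * t * (g : G)⁻¹ * (((g * s : T) : G) * t) : G) : G ⧸ H) = _
      rw [eq_comm, QuotientGroup.eq]
      have e : (((g * s' : T) : G) * t)⁻¹ * ((g : G) * t * (g : G)⁻¹ * (((g * s : T) : G) * t)) =
          ((s' : G) * t)⁻¹ * (t * s * t) := by
        push_cast
        group
      rw [e]
      exact h1
    · rw [h.b_eq, h.b_eq]
      show (((g : G) * t * (g : G)⁻¹ * (((g * s' : T) : G) * t) : G) : G ⧸ H) = _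
      rw [eq_comm, QuotientGroup.eq]
      have e : (((g * s : T) : G) * t)⁻¹ * ((g : G) * t * (g : G)⁻¹ * (((g * s' : T) : G) * t)) =
          ((s : G) * t)⁻¹ * (t * s' * t) := by
        push_cast
        group
      rw [e]
      exact h2
  oa := h.oa

theorem hmax (K : Subgroup G) (h1 : ∀ g : G, g • ((1 : G) : G ⧸ H) = ((1 : G) : G ⧸ H) → g ∈ K)
    (h2 : ∃ g ∈ K, g • ((1 : G) : G ⧸ H) ≠ ((1 : G) : G ⧸ H)) : K = ⊤ := by
  apply h.ep.max.2
  refine lt_of_le_of_ne (fun g hg => h1 g (smul_one_eq.2 hg)) ?_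
  rintro rfl
  obtain ⟨g, hg, h3⟩ := h2
  exact h3 (smul_one_eq.2 hg)

theorem hep [Finite G] (c : G ⧸ H) (e : P) (hc : c ≠ ((1 : G) : G ⧸ H))
    (hg : ∀ g : G, g • ((1 : G) : G ⧸ H) = ((1 : G) : G ⧸ H) → g • c = c → g • h.b e = h.b e) : c = h.b e := by
  obtain ⟨y, rfl⟩ := QuotientGroup.mk_surjective c
  obtain ⟨k, rfl⟩ := h.trans e
  rw [h.b_eq] at hg ⊢
  have hy : y ∉ H := by
    intro hy
    apply hc
    rw [eq_comm, QuotientGroup.eq, inv_one, one_mul]
    exact hy
  have hkt : (k : G) * t ∉ H := fun e => h.tH ((H.mul_mem_cancel_left (h.TH k.2)).1 e)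
  have h1 : H ⊓ cj y H ≤ cj ((k : G) * t) H := by
    rintro g ⟨h1, h2⟩
    exact smul_eq_iff.1 (hg g (smul_one_eq.2 h1) (smul_eq_iff.2 h2))
  have h2 : H ⊓ cj ((k : G) * t) H = H ⊓ cj y H := by
    rcases h.ep.two y hy (H ⊓ cj ((k : G) * t) H) (le_inf inf_le_left h1) inf_le_left with h2 | h2
    · exact h2
    · exact absurd (inf_eq_left.1 h2) (h.ep.not_le_cj hkt)
  have h3 : H ⊓ cj t H ≤ cj ((k : G)⁻¹ * y) H := by
    have h4 : cj (k : G)⁻¹ (H ⊓ cj ((k : G) * t) H) ≤ cj (k : G)⁻¹ (cj y H) :=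
      cj_mono (h2.le.trans inf_le_right)
    rwa [cj_inf, ← cj_mul, ← cj_mul, inv_mul_cancel_left, cj_eq_self (H.inv_mem (h.TH k.2))] at h4
  rcases h.line2 _ h3 with h4 | h4
  · exact absurd ((H.mul_mem_cancel_left (H.inv_mem (h.TH k.2))).1 h4) hy
  · rw [eq_comm, QuotientGroup.eq]
    have e1 : ((k : G) * t)⁻¹ * y = t⁻¹ * ((k : G)⁻¹ * y) := by group
    rw [e1]
    exact h4

theorem dich : (∀ x y, x ≠ y → Adj G ((1 : G) : G ⧸ H) h.b (h.b x) (h.b y)) ∨
    (∀ x y, x ≠ y → Adj G ((1 : G) : G ⧸ H) h.b (h.b x) (h.b y) → perp x y) := by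
  by_cases hcon : ∃ x y, x ≠ y ∧ Adj G ((1 : G) : G ⧸ H) h.b (h.b x) (h.b y) ∧ ¬ perp x y
  · left
    obtain ⟨x, y, hxy, h1, h2⟩ := hcon
    intro x' y' hxy'
    by_cases h3 : perp x' y'
    · exact h.loc.adj_of_perp hxy' h3
    obtain ⟨g, hg⟩ := h.trans x
    obtain ⟨g', hg'⟩ := h.trans x'
    have h4 : ∀ (g : T) (u v : P), ρ g p₀ = u → ¬ perp u v → ¬ perp p₀ (ρ g⁻¹ v) := by
      intro g u v hu h4 h5
      apply h4
      have := h.inv g _ _ h5
      rwa [hu, ← Equiv.Perm.mul_apply, ← map_mul, mul_inv_cancel, map_one, Equiv.Perm.one_apply] at this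
    obtain ⟨k, hk1, hk2⟩ := h.opp _ _ (h4 g x y hg h2) (h4 g' x' y' hg' h3)
    have h5 := Loc.adj_smul (a := ((1 : G) : G ⧸ H)) (b := h.b) ((g' * k * g⁻¹ : T) : G) h1
    rw [h.smul_b, h.smul_b] at h5
    have e1 : ρ (g' * k * g⁻¹) x = x' := by
      rw [← hg, map_mul, map_mul, Equiv.Perm.mul_apply, Equiv.Perm.mul_apply, map_inv,
        show (ρ g)⁻¹ (ρ g p₀) = p₀ from Equiv.symm_apply_apply _ _, hk1, hg']
    have e2 : ρ (g' * k * g⁻¹) y = y' := by
      rw [map_mul, map_mul, Equiv.Perm.mul_apply, Equiv.Perm.mul_apply, hk2, map_inv,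
        show ρ g' ((ρ g')⁻¹ y') = y' from Equiv.apply_symm_apply _ _]
    rwa [e1, e2] at h5
  · right
    push Not at hcon
    exact fun x y hxy h1 => hcon x y hxy h1

/-- **The index.** -/
theorem index_le [Finite G] [Finite P]
    (conn : ∀ (e : P) (S : Set P), S.Nonempty → (∀ x ∈ S, ¬ perp e x) →
      (∀ x ∈ S, ∀ z, ¬ perp e z → perp x z → z ∈ S) → ∀ z, ¬ perp e z → z ∈ S)
    (oinj : ∀ e e' : P, (∃ x, ¬ perp e x) → (∀ x, perp e x ↔ perp e' x) → e = e') :
    H.index ≤ Nat.card P * (Nat.card P + 1) := by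
  have : Nonempty P := ⟨p₀⟩
  exact h.loc.card_le h.hmax h.dich conn oinj h.hep

/-- **The index** if all points are collinear (`L_d(2)`) -/
theorem index_eq [Finite P] (hall : ∀ x y, perp x y) : H.index = Nat.card P + 1 := by
  have : Nonempty P := ⟨p₀⟩
  exact h.loc.card_complete h.hmax fun x y hxy => h.loc.adj_of_perp hxy (hall x y)

end TGeo

end TGeo

end Cfsg.Agent.H869.EPO
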