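import Mathlib

/-!
# S5745 / S3499, OWN characteristic, `q = 2`: polar spaces of order two from rank three coset geometries (helper869)

* `Pol` : points, lines of size three, one or all; `Pol.conn`, `Pol.oinj`;
* `CG P B Q s s'` : `P` maximal in `Y`, `Q = B ∪ s B ∪ s' B`, `Y = P ∪ P s P ∪ B w P`; the cosets of `P` are the points of
  a `Pol`, or all points are collinear.
-/

set_option autoImplicit false
set_option linter.unusedSectionVars false

namespace Cfsg.Agent.H869.EPO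

/-- Polar space of order two, with lines as triples. -/
structure Pol {P : Type*} (perp : P → P → Prop) (L : P → P → P → Prop) : Prop where
  refl : ∀ x, perp x x
  symm : ∀ x y, perp x y → perp y x
  line : ∀ x y, x ≠ y → perp x y → ∃ z, L x y z
  lp : ∀ x y z, L x y z → perp x y ∧ perp x z
  rot : ∀ x y z, L x y z → L y x z ∧ L x z y
  oa : ∀ x y z u, L x y z → ¬ perp u x → (perp u y ∧ ¬ perp u z) ∨ (¬ perp u y ∧ perp u z)
  nc : ∀ x, ∃ y z, perp x y ∧ perp x z ∧ ¬ perp y z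
  no : ∀ x, ∃ y, ¬ perp y x

namespace Pol

variable {P : Type*} {perp : P → P → Prop} {L : P → P → P → Prop} (l : Pol perp L)

include l

theorem third {x y z u : P} (hL : L x y z) (h1 : perp u x) (h2 : perp u y) : perp u z := by
  by_contra h3
  obtain ⟨-, h4⟩ := l.rot x y z hL
  obtain ⟨h5, -⟩ := l.rot x z y h4
  rcases l.oa z x y u h5 h3 with h6 | h6
  · exact h6.2 h2
  · exact h6.1 h1

theorem conn (e : P) (S : Set P) (hne : S.Nonempty) (hS : ∀ x ∈ S, ¬ perp e x)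
    (hc : ∀ x ∈ S, ∀ z, ¬ perp e z → perp x z → z ∈ S) (z : P) (hz : ¬ perp e z) : z ∈ S := by
  by_contra hzS
  -- `{x, e}^⊥ = {x, x'}^⊥`
  have key : ∀ (S : Set P), (∀ x ∈ S, ¬ perp e x) → (∀ x ∈ S, ∀ z, ¬ perp e z → perp x z → z ∈ S) →
      ∀ x ∈ S, ∀ x', ¬ perp e x' → x' ∉ S → ∀ w, perp x w → (perp e w ↔ perp x' w) := by
    intro S hS hc x hx x' hx' hx'S w hw
    have hxx' : ¬ perp x' x := fun h1 => hx'S (hc x hx x' hx' (l.symm _ _ h1))
    by_cases hxw : x = w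
    · subst hxw
      exact ⟨fun h1 => absurd h1 (hS x hx), fun h1 => absurd h1 hxx'⟩
    obtain ⟨v, hv⟩ := l.line x w hxw hw
    have h1 : ∀ y, perp x y → ¬ perp e y → ¬ perp x' y := by
      intro y hy hey h2
      exact hx'S (hc y (hc x hx y hey hy) x' hx' (l.symm _ _ h2))
    obtain ⟨h2, h3⟩ := l.lp x w v hv
    rcases l.oa x w v e hv (hS x hx) with h4 | h4
    · refine ⟨fun _ => ?_, fun _ => h4.1⟩
      rcases l.oa x w v x' hv hxx' with h5 | h5
      · exact h5.1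
      · exact absurd h5.2 (h1 v h3 h4.2)
    · exact ⟨fun h5 => absurd h5 h4.1, fun h5 => absurd h5 (h1 w h2 h4.1)⟩
  have key1 := key S hS hc
  have key2 := key {x | ¬ perp e x ∧ x ∉ S} (fun x hx => hx.1) (fun x hx y hy hxy =>
    ⟨hy, fun hyS => hx.2 (hc y hyS x hx.1 (l.symm _ _ hxy))⟩)
  obtain ⟨x, hx⟩ := hne
  -- `{x, e}^⊥` does not depend on `x ∈ S`
  have h1 : ∀ y ∈ S, ∀ w, perp e w → (perp y w ↔ perp z w) := by
    intro y hy w hw
    constructor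
    · intro h2
      exact (key1 y hy z hz hzS w h2).1 hw
    · intro h2
      exact (key2 z ⟨hz, hzS⟩ y (hS y hy) (fun h3 => h3.2 hy) w h2).1 hw
  -- `{x, e}^⊥` is a clique
  have h2 : ∀ w v, perp x w → perp e w → perp x v → perp e v → perp v w := by
    intro w v hw hew hv hev
    have hxw : x ≠ w := fun e1 => hS x hx (e1 ▸ hew)
    obtain ⟨y, hy⟩ := l.line x w hxw hw
    obtain ⟨-, h3⟩ := l.lp x w y hy
    have hey : ¬ perp e y := by
      rcases l.oa x w y e hy (hS x hx) with h4 | h4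
      · exact h4.2
      · exact absurd hew h4.1
    have hyS := hc x hx y hey h3
    have h4 : perp y v := (h1 y hyS v hev).2 ((h1 x hx v hev).1 hv)
    exact l.third (l.rot x w y hy).2 (l.symm _ _ hv) (l.symm _ _ h4)
  obtain ⟨a, b, hxa, hxb, hab⟩ := l.nc x
  have hxa' : x ≠ a := by rintro rfl; exact hab hxb
  have hxb' : x ≠ b := by rintro rfl; exact hab (l.symm _ _ hxa)
  obtain ⟨a', ha'⟩ := l.line x a hxa' hxa
  obtain ⟨b', hb'⟩ := l.line x b hxb' hxb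
  -- no point `≠ x` of one line is collinear to a point `≠ x` of the other
  have h3 : ∀ c c' d : P, L x c c' → perp x d → ¬ perp c d → ¬ perp c' d := by
    intro c c' d hL hxd hcd h4
    exact hcd (l.symm _ _ (l.third (l.rot x c c' hL).2 (l.symm _ _ hxd) (l.symm _ _ h4)))
  have hb1 := (l.lp x b b' hb').2
  have ha1 := (l.lp x a a' ha').2
  have g1 : ¬ perp a' b := h3 a a' b ha' hxb hab
  have g2 : ¬ perp b' a := h3 b b' a hb' hxa fun h4 => hab (l.symm _ _ h4)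
  have g3 : ¬ perp a' b' := h3 a a' b' ha' hb1 fun h4 => g2 (l.symm _ _ h4)
  rcases l.oa x a a' e ha' (hS x hx) with h4 | h4 <;> rcases l.oa x b b' e hb' (hS x hx) with h5 | h5
  · exact hab (l.symm _ _ (h2 a b hxa h4.1 hxb h5.1))
  · exact g2 (h2 a b' hxa h4.1 hb1 h5.2)
  · exact g1 (l.symm _ _ (h2 a' b ha1 h4.2 hxb h5.1))
  · exact g3 (l.symm _ _ (h2 a' b' ha1 h4.2 hb1 h5.2))

theorem oinj (e e' : P) (h : ∀ x, perp e x ↔ perp e' x) : e = e' := by
  by_contra hne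
  have h1 : perp e e' := l.symm _ _ ((h e).1 (l.refl e))
  obtain ⟨f, hf⟩ := l.line e e' hne h1
  obtain ⟨x, hx⟩ := l.no f
  by_cases h2 : perp e x
  · exact hx (l.third hf (l.symm _ _ h2) (l.symm _ _ ((h x).1 h2)))
  · rcases l.oa e e' f x hf (fun h3 => h2 (l.symm _ _ h3)) with h3 | h3
    · exact h2 ((h x).2 (l.symm _ _ h3.1))
    · exact hx h3.2

end Pol

/-! ### Coset geometries -/

section CG

variable {Y : Type*} [Group Y]

/-- `P ∪ P s P` -/
def D1 (P : Subgroup Y) (s : Y) : Set Y := {g | g ∈ P ∨ ∃ a ∈ P, ∃ b ∈ P, g = a * s * b}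

/-- `P` maximal in `Y`, `Q = B ∪ s B ∪ s' B`, `Y = P ∪ P s P ∪ B w P` -/
structure CG (P B Q : Subgroup Y) (s s' : Y) : Prop where
  max : IsCoatom P
  BP : B ≤ P
  QP : Q ⊓ P ≤ B
  BQ : B ≤ Q
  sQ : s ∈ Q
  three : ∀ g ∈ Q, g ∈ B ∨ s⁻¹ * g ∈ B ∨ s'⁻¹ * g ∈ B
  sB : s ∉ B
  ss : s * s ∈ B
  xs : ∃ x ∈ B, s' = x * s
  sx : s⁻¹ * s' ∉ B
  w : ∃ w, ∀ g, g ∈ D1 P s ∨ ∃ b ∈ B, ∃ c ∈ P, g = b * w * c

namespace CG

variable {P B Q : Subgroup Y} {s s' : Y} (c : CG P B Q s s')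

include c

theorem s'Q : s' ∈ Q := by
  obtain ⟨x, hx, rfl⟩ := c.xs
  exact mul_mem (c.BQ hx) c.sQ

theorem s'B : s' ∉ B := by
  obtain ⟨x, hx, h1⟩ := c.xs
  rw [h1]
  exact fun h2 => c.sB ((B.mul_mem_cancel_left hx).1 h2)

theorem sP : s ∉ P := fun h => c.sB (c.QP ⟨c.sQ, h⟩)

theorem ss' : s'⁻¹ * (s * s') ∈ B := by
  rcases c.three _ (mul_mem c.sQ c.s'Q) with h1 | h1 | h1
  · exfalso
    apply c.sx
    have e : s⁻¹ * s' = (s * s)⁻¹ * (s * s') := by group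
    rw [e]
    exact mul_mem (inv_mem c.ss) h1
  · exfalso
    rw [inv_mul_cancel_left] at h1
    exact c.s'B h1
  · exact h1

theorem s's : s' * s ∈ B := by
  obtain ⟨x, hx, h1⟩ := c.xs
  rw [h1, mul_assoc]
  exact mul_mem hx c.ss

theorem s's' : s⁻¹ * (s' * s') ∈ B := by
  rcases c.three _ (mul_mem c.s'Q c.s'Q) with h1 | h1 | h1
  · exfalso
    apply c.sx
    have e : s⁻¹ * s' = (s' * s)⁻¹ * (s' * s') := by group
    rw [e]
    exact mul_mem (inv_mem c.s's) h1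
  · exact h1
  · exfalso
    rw [inv_mul_cancel_left] at h1
    exact c.s'B h1

theorem perm {b : Y} (hb : b ∈ B) : (s⁻¹ * (b * s) ∈ B ∧ s'⁻¹ * (b * s') ∈ B) ∨
    (s'⁻¹ * (b * s) ∈ B ∧ s⁻¹ * (b * s') ∈ B) := by
  have h1 : b * s ∉ B := fun h => c.sB ((B.mul_mem_cancel_left hb).1 h)
  have h2 : b * s' ∉ B := fun h => c.s'B ((B.mul_mem_cancel_left hb).1 h)
  have h3 := (c.three _ (mul_mem (c.BQ hb) c.sQ)).resolve_left h1
  have h4 := (c.three _ (mul_mem (c.BQ hb) c.s'Q)).resolve_left h2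
  have h5 : ∀ u : Y, u⁻¹ * (b * s) ∈ B → u⁻¹ * (b * s') ∈ B → False := by
    intro u h5 h6
    apply c.sx
    have e : s⁻¹ * s' = (u⁻¹ * (b * s))⁻¹ * (u⁻¹ * (b * s')) := by group
    rw [e]
    exact mul_mem (inv_mem h5) h6
  rcases h3 with h3 | h3 <;> rcases h4 with h4 | h4
  · exact (h5 _ h3 h4).elim
  · exact Or.inl ⟨h3, h4⟩
  · exact Or.inr ⟨h3, h4⟩
  · exact (h5 _ h3 h4).elim

theorem mem_left {a g : Y} (ha : a ∈ P) (hg : g ∈ D1 P s) : a * g ∈ D1 P s := by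
  rcases hg with hg | ⟨x, hx, y, hy, rfl⟩
  · exact Or.inl (mul_mem ha hg)
  · exact Or.inr ⟨a * x, mul_mem ha hx, y, hy, by group⟩

theorem mem_right {a g : Y} (ha : a ∈ P) (hg : g ∈ D1 P s) : g * a ∈ D1 P s := by
  rcases hg with hg | ⟨x, hx, y, hy, rfl⟩
  · exact Or.inl (mul_mem hg ha)
  · exact Or.inr ⟨x, hx, y * a, mul_mem hy ha, by group⟩

theorem left_iff {a g : Y} (ha : a ∈ P) : a * g ∈ D1 P s ↔ g ∈ D1 P s := by
  refine ⟨fun h => ?_, c.mem_left ha⟩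
  have := c.mem_left (inv_mem ha) h
  rwa [inv_mul_cancel_left] at this

theorem right_iff {a g : Y} (ha : a ∈ P) : g * a ∈ D1 P s ↔ g ∈ D1 P s := by
  refine ⟨fun h => ?_, c.mem_right ha⟩
  have := c.mem_right (inv_mem ha) h
  rwa [mul_inv_cancel_right] at this

theorem inv_mem {g : Y} (hg : g ∈ D1 P s) : g⁻¹ ∈ D1 P s := by
  rcases hg with hg | ⟨x, hx, y, hy, rfl⟩
  · exact Or.inl (P.inv_mem hg)
  · refine Or.inr ⟨y⁻¹ * (s * s)⁻¹, P.mul_mem (P.inv_mem hy) (P.inv_mem (c.BP c.ss)), x⁻¹, P.inv_mem hx, by group⟩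

theorem inv_iff {g : Y} : g⁻¹ ∈ D1 P s ↔ g ∈ D1 P s :=
  ⟨fun h => by have := c.inv_mem h; rwa [inv_inv] at this, c.inv_mem⟩

theorem s_mem : s ∈ D1 P s := Or.inr ⟨1, one_mem _, 1, one_mem _, by group⟩

/-- `P` maximal, a set containing `P` closed under products and inverses -/
theorem of_closed (E : Set Y) (h1 : ∀ g ∈ P, g ∈ E) (h2 : ∀ g ∈ E, g⁻¹ ∈ E) (h3 : ∀ g ∈ E, ∀ k ∈ E, g * k ∈ E)
    (h4 : ∃ g ∈ E, g ∉ P) (g : Y) : g ∈ E := by
  let K : Subgroup Y :=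
    { carrier := E
      one_mem' := h1 1 (one_mem _)
      mul_mem' := fun ha hb => h3 _ ha _ hb
      inv_mem' := fun ha => h2 _ ha }
  have hK : K = ⊤ := by
    apply c.max.2
    refine lt_of_le_of_ne (fun g hg => h1 g hg) ?_
    intro e
    obtain ⟨g, hg, hgP⟩ := h4
    apply hgP
    rw [e]
    exact hg
  have : g ∈ K := by rw [hK]; trivial
  exact this

theorem trans_opp {u v : Y} (hu : u ∉ D1 P s) (hv : v ∉ D1 P s) : ∃ b ∈ B, v⁻¹ * (b * u) ∈ P := by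
  obtain ⟨w, hw⟩ := c.w
  obtain ⟨b, hb, p, hp, rfl⟩ := (hw u).resolve_left hu
  obtain ⟨b', hb', p', hp', rfl⟩ := (hw v).resolve_left hv
  refine ⟨b' * b⁻¹, mul_mem hb' (B.inv_mem hb), ?_⟩
  have e : (b' * w * p')⁻¹ * (b' * b⁻¹ * (b * w * p)) = p'⁻¹ * p := by group
  rw [e]
  exact mul_mem (P.inv_mem hp') hp

/-- one or all, for the line `P, s P, s' P` -/
theorem one {u : Y} (hu : u ∉ D1 P s) :
    (u⁻¹ * s ∈ D1 P s ∧ u⁻¹ * s' ∉ D1 P s) ∨ (u⁻¹ * s ∉ D1 P s ∧ u⁻¹ * s' ∈ D1 P s) := by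
  -- moving `u` by `b ∈ B`
  have hmove : ∀ v, v ∉ D1 P s → ((v⁻¹ * s ∈ D1 P s ↔ u⁻¹ * s ∈ D1 P s) ∧ (v⁻¹ * s' ∈ D1 P s ↔ u⁻¹ * s' ∈ D1 P s)) ∨
      ((v⁻¹ * s ∈ D1 P s ↔ u⁻¹ * s' ∈ D1 P s) ∧ (v⁻¹ * s' ∈ D1 P s ↔ u⁻¹ * s ∈ D1 P s)) := by
    intro v hv
    obtain ⟨b, hb, h1⟩ := c.trans_opp hv hu
    -- `b v = u p`
    have h2 : ∀ x y : Y, y⁻¹ * (b * x) ∈ B → (v⁻¹ * x ∈ D1 P s ↔ u⁻¹ * y ∈ D1 P s) := by
      intro x y h2
      have e1 : v⁻¹ * x = (u⁻¹ * (b * v))⁻¹ * (u⁻¹ * y * (y⁻¹ * (b * x))) := by group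
      rw [e1, c.left_iff (P.inv_mem h1), c.right_iff (c.BP h2)]
    rcases c.perm hb with ⟨h3, h4⟩ | ⟨h3, h4⟩
    · exact Or.inl ⟨h2 _ _ h3, h2 _ _ h4⟩
    · exact Or.inr ⟨h2 _ _ h3, h2 _ _ h4⟩
  by_cases hs : u⁻¹ * s ∈ D1 P s
  · by_cases hs' : u⁻¹ * s' ∈ D1 P s
    · exfalso
      -- both
      have h1 : ∀ v, v ∉ D1 P s → v⁻¹ * s ∈ D1 P s := by
        intro v hv
        rcases hmove v hv with h2 | h2
        · exact h2.1.2 hs
        · exact h2.1.2 hs'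
      have h2 : ∀ v, v ∉ D1 P s → ∀ d ∈ D1 P s, d ∉ P → v⁻¹ * d ∈ D1 P s := by
        intro v hv d hd hdP
        rcases hd with hd | ⟨a, ha, b, hb, rfl⟩
        · exact absurd hd hdP
        have e : v⁻¹ * (a * s * b) = ((a⁻¹ * v)⁻¹ * s) * b := by group
        rw [e, c.right_iff hb]
        exact h1 _ (by rwa [c.left_iff (P.inv_mem ha)])
      have h3 : s ∈ {g : Y | g ∈ P ∨ g ∉ D1 P s} := by
        apply c.of_closed
        · exact fun g hg => Or.inl hg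
        · rintro g (hg | hg)
          · exact Or.inl (P.inv_mem hg)
          · exact Or.inr (by rwa [c.inv_iff])
        · rintro g (hg | hg) k (hk | hk)
          · exact Or.inl (P.mul_mem hg hk)
          · exact Or.inr (by rwa [c.left_iff hg])
          · exact Or.inr (by rwa [c.right_iff hk])
          · by_cases h4 : g * k ∈ P
            · exact Or.inl h4
            · right
              intro h5
              have h6 := h2 g hg _ h5 h4
              rw [inv_mul_cancel_left] at h6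
              exact hk h6
        · exact ⟨u, Or.inr hu, fun h4 => hu (Or.inl h4)⟩
      rcases h3 with h3 | h3
      · exact c.sP h3
      · exact h3 c.s_mem
    · exact Or.inl ⟨hs, hs'⟩
  · by_cases hs' : u⁻¹ * s' ∈ D1 P s
    · exact Or.inr ⟨hs, hs'⟩
    · exfalso
      -- none
      have h1 : ∀ v, v ∉ D1 P s → v⁻¹ * s ∉ D1 P s := by
        intro v hv h3
        rcases hmove v hv with h2 | h2
        · exact hs (h2.1.1 h3)
        · exact hs' (h2.1.1 h3)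
      have h2 : ∀ v, v ∉ D1 P s → ∀ d ∈ D1 P s, d ∉ P → v⁻¹ * d ∉ D1 P s := by
        intro v hv d hd hdP
        rcases hd with hd | ⟨a, ha, b, hb, rfl⟩
        · exact absurd hd hdP
        have e : v⁻¹ * (a * s * b) = ((a⁻¹ * v)⁻¹ * s) * b := by group
        rw [e, c.right_iff hb]
        exact h1 _ (by rwa [c.left_iff (P.inv_mem ha)])
      apply hu
      apply c.of_closed
      · exact fun g hg => Or.inl hg
      · exact fun g hg => c.inv_mem hg
      · intro g hg k hk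
        by_cases hgP : g ∈ P
        · exact c.mem_left hgP hk
        · by_contra h3
          apply h2 _ h3 g hg hgP
          have e : (g * k)⁻¹ * g = k⁻¹ := by group
          rw [e]
          exact c.inv_mem hk
      · exact ⟨s, c.s_mem, c.sP⟩

/-! ### The geometry on the cosets -/

omit c in
/-- collinearity -/
def perp (P : Subgroup Y) (s : Y) (x y : Y ⧸ P) : Prop :=
  ∃ g k : Y, (g : Y ⧸ P) = x ∧ (k : Y ⧸ P) = y ∧ g⁻¹ * k ∈ D1 P s

omit c in
/-- lines -/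
def Ln (P : Subgroup Y) (s s' : Y) (x y z : Y ⧸ P) : Prop :=
  ∃ g : Y, x = (g : Y ⧸ P) ∧ ((y = ((g * s : Y) : Y ⧸ P) ∧ z = ((g * s' : Y) : Y ⧸ P)) ∨
    (y = ((g * s' : Y) : Y ⧸ P) ∧ z = ((g * s : Y) : Y ⧸ P)))

theorem perp_mk {g k : Y} : perp P s (g : Y ⧸ P) (k : Y ⧸ P) ↔ g⁻¹ * k ∈ D1 P s := by
  constructor
  · rintro ⟨g', k', h1, h2, h3⟩
    have h1' := QuotientGroup.eq.1 h1.symm
    have h2' := QuotientGroup.eq.1 h2.symm
    have e : g⁻¹ * k = (g⁻¹ * g') * (g'⁻¹ * k' * (k⁻¹ * k')⁻¹) := by group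
    rw [e, c.left_iff h1', c.right_iff (P.inv_mem h2')]
    exact h3
  · intro h
    exact ⟨g, k, rfl, rfl, h⟩

theorem refl' (x : Y ⧸ P) : perp P s x x := by
  obtain ⟨g, rfl⟩ := QuotientGroup.mk_surjective x
  rw [c.perp_mk, inv_mul_cancel]
  exact Or.inl (one_mem _)

theorem symm' (x y : Y ⧸ P) (h : perp P s x y) : perp P s y x := by
  obtain ⟨g, rfl⟩ := QuotientGroup.mk_surjective x
  obtain ⟨k, rfl⟩ := QuotientGroup.mk_surjective y
  rw [c.perp_mk] at h ⊢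
  have := c.inv_mem h
  rwa [mul_inv_rev, inv_inv] at this

theorem line' (x y : Y ⧸ P) (hxy : x ≠ y) (h : perp P s x y) : ∃ z, Ln P s s' x y z := by
  obtain ⟨g, rfl⟩ := QuotientGroup.mk_surjective x
  obtain ⟨k, rfl⟩ := QuotientGroup.mk_surjective y
  rw [c.perp_mk] at h
  rcases h with h | ⟨a, ha, b, hb, h⟩
  · exact absurd (QuotientGroup.eq.2 h) hxy
  · refine ⟨((g * a * s' : Y) : Y ⧸ P), g * a, ?_, Or.inl ⟨?_, rfl⟩⟩
    · apply QuotientGroup.eq.2
      rwa [inv_mul_cancel_left]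
    · apply QuotientGroup.eq.2
      have e : k⁻¹ * (g * a * s) = b⁻¹ := by
        have : k = g * (a * s * b) := by rw [← h]; group
        rw [this]
        group
      rw [e]
      exact P.inv_mem hb

theorem oa' (x y z u : Y ⧸ P) (hL : Ln P s s' x y z) (hu : ¬ perp P s u x) :
    (perp P s u y ∧ ¬ perp P s u z) ∨ (¬ perp P s u y ∧ perp P s u z) := by
  obtain ⟨g, rfl, h1⟩ := hL
  obtain ⟨k, rfl⟩ := QuotientGroup.mk_surjective u
  rw [c.perp_mk] at hu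
  have h2 : g⁻¹ * k ∉ D1 P s := by
    rw [← c.inv_iff, mul_inv_rev, inv_inv]
    exact hu
  have h3 := c.one h2
  have e : ∀ x : Y, (g⁻¹ * k)⁻¹ * x = k⁻¹ * (g * x) := fun x => by group
  rw [e, e] at h3
  rcases h1 with ⟨rfl, rfl⟩ | ⟨rfl, rfl⟩
  · rw [c.perp_mk, c.perp_mk]
    exact h3
  · rw [c.perp_mk, c.perp_mk]
    tauto

theorem pol (hne : ∃ u, u ∉ D1 P s) : Pol (perp P s) (Ln P s s') where
  refl := c.refl'
  symm := c.symm'
  line := c.line'
  lp := by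
    rintro x y z ⟨g, rfl, h1⟩
    have h2 : perp P s (g : Y ⧸ P) ((g * s : Y) : Y ⧸ P) := by
      rw [c.perp_mk, inv_mul_cancel_left]
      exact c.s_mem
    have h3 : perp P s (g : Y ⧸ P) ((g * s' : Y) : Y ⧸ P) := by
      rw [c.perp_mk, inv_mul_cancel_left]
      obtain ⟨x, hx, h3⟩ := c.xs
      rw [h3]
      exact c.mem_left (c.BP hx) c.s_mem
    rcases h1 with ⟨rfl, rfl⟩ | ⟨rfl, rfl⟩
    · exact ⟨h2, h3⟩
    · exact ⟨h3, h2⟩
  rot := by
    rintro x y z ⟨g, rfl, h1⟩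
    refine ⟨?_, g, rfl, ?_⟩
    · rcases h1 with ⟨rfl, rfl⟩ | ⟨rfl, rfl⟩
      · refine ⟨g * s, rfl, Or.inl ⟨?_, ?_⟩⟩
        · apply QuotientGroup.eq.2
          have e : g⁻¹ * (g * s * s) = s * s := by group
          rw [e]
          exact c.BP c.ss
        · apply QuotientGroup.eq.2
          have e : (g * s')⁻¹ * (g * s * s') = s'⁻¹ * (s * s') := by group
          rw [e]
          exact c.BP c.ss'
      · refine ⟨g * s', rfl, Or.inl ⟨?_, ?_⟩⟩
        · apply QuotientGroup.eq.2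
          have e : g⁻¹ * (g * s' * s) = s' * s := by group
          rw [e]
          exact c.BP c.s's
        · apply QuotientGroup.eq.2
          have e : (g * s)⁻¹ * (g * s' * s') = s⁻¹ * (s' * s') := by group
          rw [e]
          exact c.BP c.s's'
    · tauto
  oa := c.oa'
  nc := by
    intro x
    obtain ⟨g, rfl⟩ := QuotientGroup.mk_surjective x
    by_contra hcon
    push Not at hcon
    obtain ⟨u, hu⟩ := hne
    apply hu
    have h1 : ∀ a ∈ D1 P s, ∀ b ∈ D1 P s, a⁻¹ * b ∈ D1 P s := by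
      intro a ha b hb
      have h2 := hcon ((g * a : Y) : Y ⧸ P) ((g * b : Y) : Y ⧸ P) (by
        rw [c.perp_mk, inv_mul_cancel_left]; exact ha) (by rw [c.perp_mk, inv_mul_cancel_left]; exact hb)
      rw [c.perp_mk] at h2
      have e : (g * a)⁻¹ * (g * b) = a⁻¹ * b := by group
      rwa [e] at h2
    apply c.of_closed
    · exact fun g hg => Or.inl hg
    · exact fun g hg => c.inv_mem hg
    · intro a ha b hb
      have := h1 _ (c.inv_mem ha) _ hb
      rwa [inv_inv] at this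
    · exact ⟨s, c.s_mem, c.sP⟩
  no := by
    intro x
    obtain ⟨g, rfl⟩ := QuotientGroup.mk_surjective x
    obtain ⟨u, hu⟩ := hne
    refine ⟨((g * u : Y) : Y ⧸ P), ?_⟩
    rw [c.perp_mk]
    have e : (g * u)⁻¹ * g = u⁻¹ := by group
    rwa [e, c.inv_iff]

end CG

end CG

end Cfsg.Agent.H869.EPO
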