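import Cfsg.Agent.H737.EPO.TwoB
import Cfsg.Agent.H869.EPO.LG
import Cfsg.Agent.H869.EPO.Polar

/-!
# S5745 / S3499, OWN characteristic, `q = 2`: the local geometry of the state `Q2` (helper869)

`Q2.index_le` : if `Y = P ∪ P s P ∪ B w P` with `P = P_{I - i}` and `P_i = B ∪ s B ∪ s' B` then
`|G : H| ≤ n (n + 1)`, `n = |Y : P_{I - i}|`.
-/

set_option autoImplicit false
set_option linter.unusedSectionVars false

namespace Cfsg.Agent.H869.EPO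

open Cfsg.Agent.H284 Cfsg.Agent.H209.EPX Cfsg.Agent.H737.EPO
open scoped Pointwise

section

variable {G Y : Type*} [Group G] [Finite G] [Group Y] [Finite Y] {H N R : Subgroup G}
  {e : N ≃* (Fin 1 → Y)} {I : Type*} {S : PSys Y 2 I} [IsSimpleGroup Y] (hY : ∃ a b : Y, a * b ≠ b * a)
  {i : I} {t : G} (q : Q2 H R e S i t) {s s' : Y} (c : CG (S.P {i}ᶜ) (S.P ∅) (S.P {i}) s s')

/-- the action on the cosets -/
def rho (e : N ≃* (Fin 1 → Y)) (P : Subgroup Y) : N →* Equiv.Perm (Y ⧸ P) :=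
  (MulAction.toPermHom Y (Y ⧸ P)).comp ((Pi.evalMonoidHom (fun _ : Fin 1 => Y) 0).comp e.toMonoidHom)

omit [Finite G] [Finite Y] [IsSimpleGroup Y] in
theorem rho_mk (P : Subgroup Y) (g : N) (y : Y) : rho e P g (y : Y ⧸ P) = ((e g 0 * y : Y) : Y ⧸ P) := rfl

include hY q c

omit [Finite Y] [IsSimpleGroup Y] hY q c in
theorem cp_coe (g : N) : cp e (g : G) 0 = e g 0 := cp_eq e g.2 0

theorem exists_t (hi : ({i} : Set I) ≠ Set.univ) : ∃ t₁ : G, t₁ ∉ H ∧ t₁ * t₁ ∈ H ∧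
    H ⊓ cj t₁ H = PH H e S (fun _ => {i}ᶜ) ∧
    (sg e 0 s' * t₁)⁻¹ * (t₁ * sg e 0 s * t₁) ∈ H ∧ (sg e 0 s * t₁)⁻¹ * (t₁ * sg e 0 s' * t₁) ∈ H := by
  have hK : ∀ j : Fin 1, (fun _ => ({i} : Set I)) j ≠ Set.univ := fun _ => hi
  obtain ⟨D, Q, hVD, hDP, hDp, hDn, hQp, hQn, hDQ', hQH, hQD⟩ := q.dq (fun _ => {i}) (VV_ne_bot e (i := 0) hi)
  obtain ⟨W, -, hWD, v⟩ := exists_vecB Nat.prime_two hDn hQp hQn hDQ' hQH hQD
  have hPH : PH H e S (fun _ => {i}) ≤ H := inf_le_left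
  have hDH : D ≤ H := hDP.trans hPH
  have hPP : PP e S (fun _ => {i}) ≤ PH H e S (fun _ => {i}) := PP_le_PH e S q.minN.le _
  set M := PH H e S (fun _ => ({i}ᶜ : Set I)) with hM
  have hcD : ∀ a ∈ PH H e S (fun _ => {i}), ∀ w, w ∉ D → a * w * a⁻¹ ∉ D := by
    intro a ha w hwD h1
    apply hwD
    have := hDn a⁻¹ (inv_mem ha) _ h1
    have e2 : a⁻¹ * (a * w * a⁻¹) * a⁻¹⁻¹ = w := by group
    rwa [e2] at this
  have hconj : ∀ w ∈ W, w ∉ D → ∃ a ∈ PP e S (fun _ => {i}), H ⊓ cj w H = cj a M := by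
    intro w hw hwD
    apply q.conj_M hY hK ⟨w, v.notMem_H hw hwD, rfl⟩
    refine hVD.trans (le_inf hDH ?_)
    rw [← cj_eq_of_nm (v.WD w hw)]
    exact cj_mono hDH
  obtain ⟨w₀, hw₀, hw₀D, hw₀M⟩ : ∃ w ∈ W, w ∉ D ∧ H ⊓ cj w H = M := by
    obtain ⟨w, hw, hwD⟩ : ∃ w ∈ W, w ∉ D := by
      by_contra hcon
      push Not at hcon
      exact hWD (le_antisymm hcon v.DW)
    obtain ⟨a, ha, h1⟩ := hconj w hw hwD
    refine ⟨a⁻¹ * w * a⁻¹⁻¹, v.Wn _ (inv_mem (hPP ha)) w hw, hcD _ (inv_mem (hPP ha)) w hwD, ?_⟩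
    rw [← PanelB.cj_two (inv_mem (hPH (hPP ha))), h1, cj_inv_cj]
  have hw₀H := v.notMem_H hw₀ hw₀D
  have hww : w₀ * w₀ ∈ D := by have := v.pow w₀ hw₀; rwa [pow_two] at this
  -- `s`, `s'` in `P_i`
  have hsP : ∀ y ∈ S.P {i}, sg e 0 y ∈ PP e S (fun _ => {i}) := fun y hy => (sg_mem_pk e).2 hy
  -- a vector with stabiliser `M^a` is `a w₀ a⁻¹`
  have huniq : ∀ w ∈ W, w ∉ D → ∀ a ∈ PP e S (fun _ => {i}), H ⊓ cj w H = cj a M → w⁻¹ * (a * w₀ * a⁻¹) ∈ D := by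
    intro w hw hwD a ha h1
    have haP := hPP ha
    have h2 : H ⊓ cj (a⁻¹ * w * a⁻¹⁻¹) H = M := by
      rw [← PanelB.cj_two (inv_mem (hPH haP)), h1, cj_inv_cj]
    have h3 := q.line' (v.notMem_H (v.Wn _ (inv_mem haP) w hw) (hcD _ (inv_mem haP) w hwD)) hw₀H h2 hw₀M
    have h4 : (a⁻¹ * w * a⁻¹⁻¹)⁻¹ * w₀ ∈ D := by
      rw [← v.WH]
      exact ⟨W.mul_mem (W.inv_mem (v.Wn _ (inv_mem haP) w hw)) hw₀, h3⟩
    have h5 := hDn a haP _ h4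
    have e1 : a * ((a⁻¹ * w * a⁻¹⁻¹)⁻¹ * w₀) * a⁻¹ = w⁻¹ * (a * w₀ * a⁻¹) := by group
    rwa [e1] at h5
  -- `PP ∅` normalises `M`
  have hBM : ∀ b ∈ PP e S (fun _ => ∅), cj b M = M := by
    intro b hb
    apply cj_eq_self
    exact PP_le_PH e S q.minN.le _ ((PP_le_iff e S).2 (fun _ => Set.empty_subset _) hb)
  have hPPi : ∀ a ∈ PP e S (fun _ => {i}), cj a M = M ∨ cj a M = cj (sg e 0 s) M ∨ cj a M = cj (sg e 0 s') M := by
    intro a ha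
    rw [PP_map] at ha
    obtain ⟨y, hy, rfl⟩ := ha
    have hB : ∀ y ∈ S.P ∅, sg e 0 y ∈ PP e S (fun _ => ∅) := fun y hy => (sg_mem_pk e).2 hy
    rcases c.three y hy with h1 | h1 | h1
    · exact Or.inl (hBM _ (hB _ h1))
    · right; left
      have e1 : y = s * (s⁻¹ * y) := by group
      rw [e1, map_mul, cj_mul, hBM _ (hB _ h1)]
    · right; right
      have e1 : y = s' * (s'⁻¹ * y) := by group
      rw [e1, map_mul, cj_mul, hBM _ (hB _ h1)]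
  -- `s`, `s'`, `s⁻¹ s'` do not normalise `M`
  have hnM : ∀ y : Y, y ∉ S.P {i}ᶜ → cj (sg e 0 y) M ≠ M := by
    intro y hy h1
    apply hy
    apply S.norm_P
    have h2 : cj (sg e 0 y) (PP e S fun _ => {i}ᶜ) = PP e S fun _ => {i}ᶜ := by
      have hN1 : cj (sg e 0 y) N = N := cj_eq_self (sg_mem e 0 y)
      have h3 := PH_inf e S q.minN.le (fun _ => ({i}ᶜ : Set I))
      rw [← h3, cj_inf, hN1]
      rw [← hM, h1]
    rw [PP_map, show cj (sg e 0 y) ((S.P {i}ᶜ).map (sg e 0)) = (cj y (S.P {i}ᶜ)).map (sg e 0) from by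
      ext g
      constructor
      · rintro ⟨_, ⟨z, hz, rfl⟩, rfl⟩
        refine ⟨y * z * y⁻¹, ⟨z, hz, rfl⟩, ?_⟩
        rw [map_mul, map_mul, map_inv]
        rfl
      · rintro ⟨_, ⟨z, hz, rfl⟩, rfl⟩
        refine ⟨sg e 0 z, ⟨z, hz, rfl⟩, ?_⟩
        show sg e 0 y * sg e 0 z * (sg e 0 y)⁻¹ = sg e 0 (y * z * y⁻¹)
        rw [map_mul, map_mul, map_inv]] at h2
    exact Subgroup.map_injective (sg_inj (e := e)) h2
  have hss' : cj (sg e 0 s) M ≠ cj (sg e 0 s') M := by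
    intro h1
    apply hnM (s⁻¹ * s')
    · intro h2
      exact c.sx (c.QP ⟨(S.P {i}).mul_mem ((S.P {i}).inv_mem c.sQ) c.s'Q, h2⟩)
    · rw [map_mul, map_inv, cj_mul, ← h1, cj_inv_cj]
  have hsM : cj (sg e 0 s) M ≠ M := hnM s c.sP
  have hs'P : s' ∉ S.P {i}ᶜ := fun h1 => c.s'B (c.QP ⟨c.s'Q, h1⟩)
  have hs'M : cj (sg e 0 s') M ≠ M := hnM s' hs'P
  -- the third vector
  have key : ∀ x y : G, x ∈ PP e S (fun _ => {i}) → y ∈ PP e S (fun _ => {i}) → cj x M ≠ M →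
      (∀ a ∈ PP e S (fun _ => {i}), cj a M = M ∨ cj a M = cj x M ∨ cj a M = cj y M) →
      (y * w₀)⁻¹ * (w₀ * x * w₀) ∈ H := by
    intro x y hx hy hxM hall
    have hxP := hPP hx
    have hyP := hPP hy
    have h1 : w₀ * (x * w₀ * x⁻¹) ∈ W := mul_mem hw₀ (v.Wn _ hxP _ hw₀)
    have hxx : (x * w₀ * x⁻¹) * (x * w₀ * x⁻¹) ∈ D := by
      have := hDn x hxP _ hww
      have e1 : x * (w₀ * w₀) * x⁻¹ = (x * w₀ * x⁻¹) * (x * w₀ * x⁻¹) := by group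
      rwa [e1] at this
    have hMx : H ⊓ cj (x * w₀ * x⁻¹) H = cj x M := by rw [← hw₀M, PanelB.cj_two (hPH hxP)]
    have hD' : ∀ w ∈ W, ∀ d ∈ D, w⁻¹ * d * w ∈ D := by
      intro w hw d hd
      have := v.WD w⁻¹ (inv_mem hw) d hd
      rwa [inv_inv] at this
    have h2 : w₀ * (x * w₀ * x⁻¹) ∉ D := by
      intro h2
      apply hxM
      rw [← hMx, ← hw₀M]
      have e1 : x * w₀ * x⁻¹ = w₀ * ((w₀ * w₀)⁻¹ * (w₀ * (x * w₀ * x⁻¹))) := by group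
      rw [e1, cj_mul, cj_eq_self (hDH (mul_mem (inv_mem hww) h2))]
    obtain ⟨a, ha, h3⟩ := hconj _ h1 h2
    rcases hall a ha with h4 | h4 | h4
    · exfalso
      have h5 := huniq _ h1 h2 1 (one_mem _) (by rw [h3, h4, cj_one])
      have e1 : (w₀ * (x * w₀ * x⁻¹))⁻¹ * (1 * w₀ * 1⁻¹) = (x * w₀ * x⁻¹)⁻¹ := by group
      rw [e1] at h5
      exact hcD x hxP w₀ hw₀D (by rw [← inv_inv (x * w₀ * x⁻¹)]; exact inv_mem h5)
    · exfalso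
      have h5 := huniq _ h1 h2 x hx (by rw [h3, h4])
      have h6 := v.WD (x * w₀ * x⁻¹) (v.Wn _ hxP _ hw₀) _ h5
      have e1 : x * w₀ * x⁻¹ * ((w₀ * (x * w₀ * x⁻¹))⁻¹ * (x * w₀ * x⁻¹)) * (x * w₀ * x⁻¹)⁻¹ = w₀⁻¹ := by group
      rw [e1] at h6
      exact hw₀D (by rw [← inv_inv w₀]; exact inv_mem h6)
    · have h5 := huniq _ h1 h2 y hy (by rw [h3, h4])
      have e1 : (y * w₀)⁻¹ * (w₀ * x * w₀) = y⁻¹ * ((w₀ * (x * w₀ * x⁻¹))⁻¹ * (y * w₀ * y⁻¹))⁻¹ * x := by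
        group
      rw [e1]
      exact mul_mem (mul_mem (inv_mem (hPH hyP)) (inv_mem (hDH h5))) (hPH hxP)
  refine ⟨w₀, hw₀H, hDH hww, hw₀M, ?_, ?_⟩
  · exact key _ _ (hsP s c.sQ) (hsP s' c.s'Q) hsM hPPi
  · exact key _ _ (hsP s' c.s'Q) (hsP s c.sQ) hs'M fun a ha => by
      rcases hPPi a ha with h1 | h1 | h1
      · exact Or.inl h1
      · exact Or.inr (Or.inr h1)
      · exact Or.inr (Or.inl h1)

/-- the local geometry -/
theorem tgeo (hi : ({i} : Set I) ≠ Set.univ) : ∃ t₁ : G, TGeo H N t₁ (rho e (S.P {i}ᶜ)) ((1 : Y) : Y ⧸ S.P {i}ᶜ)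
    (CG.perp (S.P {i}ᶜ) s) (CG.Ln (S.P {i}ᶜ) s s') := by
  obtain ⟨t₁, ht, htt, hM, h1, h2⟩ := exists_t hY q c hi
  have hsg : ∀ g : N, sg e 0 (e g 0) = (g : G) := by
    intro g
    rw [← cp_coe]
    apply ext_cp e (sg_mem e 0 _) g.2
    intro j
    have : j = 0 := Subsingleton.elim _ _
    rw [this, cp_sg]
  have hmem : ∀ g : N, (g : G) ∈ cj t₁ H ↔ e g 0 ∈ S.P {i}ᶜ := by
    intro g
    have h3 : (g : G) ∈ cj t₁ H ↔ (g : G) ∈ PP e S fun _ => {i}ᶜ := by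
      rw [← PH_inf e S q.minN.le, ← hM]
      exact ⟨fun h => ⟨⟨q.minN.le g.2, h⟩, g.2⟩, fun h => h.1.2⟩
    rw [h3, ← hsg g]
    exact sg_mem_pk e
  have hsgN : ∀ y : Y, ∃ g : N, (g : G) = sg e 0 y ∧ e g 0 = y := by
    intro y
    refine ⟨⟨sg e 0 y, sg_mem e 0 y⟩, rfl, ?_⟩
    rw [← cp_coe]
    exact cp_sg e 0 y
  obtain ⟨gs, hgs, hgs'⟩ := hsgN s
  obtain ⟨gs2, hgs2, hgs2'⟩ := hsgN s'
  refine ⟨t₁, ?_⟩
  constructor
  · exact q.ep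
  · exact q.minN.le
  · exact ht
  · exact htt
  · intro x hx
    by_cases hxH : x ∈ H
    · exact Or.inl hxH
    right
    have h3 : H ⊓ cj x H = PH H e S fun _ => {i}ᶜ := by
      rw [← hM]
      exact two_eq q.ep ht hxH hx
    exact q.line' ht hxH hM h3
  · intro x hx
    obtain ⟨n, hn, m, hm, rfl⟩ := MX.fac q.minN (mx_of_two q.ep q.minN q.twoM) hx
    refine ⟨n, hn, ?_⟩
    rw [inv_mul_cancel_left]
    rw [← hM] at hm
    exact hm.2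
  · intro x
    obtain ⟨y, rfl⟩ := QuotientGroup.mk_surjective x
    obtain ⟨g, -, hg⟩ := hsgN y
    refine ⟨g, ?_⟩
    rw [rho_mk, hg, mul_one]
  · intro g
    rw [hmem, rho_mk, mul_one, eq_comm, QuotientGroup.eq, inv_one, one_mul]
  · exact c.refl'
  · exact c.symm'
  · intro g x y hxy
    obtain ⟨u, rfl⟩ := QuotientGroup.mk_surjective x
    obtain ⟨k, rfl⟩ := QuotientGroup.mk_surjective y
    rw [show rho e (S.P {i}ᶜ) g (QuotientGroup.mk u) = _ from rho_mk _ g u,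
      show rho e (S.P {i}ᶜ) g (QuotientGroup.mk k) = _ from rho_mk _ g k, c.perp_mk]
    rw [show QuotientGroup.mk u = ((u : Y) : Y ⧸ S.P {i}ᶜ) from rfl, c.perp_mk] at hxy
    have e1 : (e g 0 * u)⁻¹ * (e g 0 * k) = u⁻¹ * k := by group
    rwa [e1]
  · exact c.line'
  · exact c.oa'
  · rintro x y z ⟨k, rfl, h3⟩
    obtain ⟨g, -, hg⟩ := hsgN k
    have e0 : ((k : Y) : Y ⧸ S.P {i}ᶜ) = rho e (S.P {i}ᶜ) g ((1 : Y) : Y ⧸ S.P {i}ᶜ) := by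
      rw [rho_mk, hg, mul_one]
    have e1 : ((k * s : Y) : Y ⧸ S.P {i}ᶜ) = rho e (S.P {i}ᶜ) (g * gs) ((1 : Y) : Y ⧸ S.P {i}ᶜ) := by
      rw [rho_mk, map_mul, Pi.mul_apply, hg, hgs', mul_one]
    have e2 : ((k * s' : Y) : Y ⧸ S.P {i}ᶜ) = rho e (S.P {i}ᶜ) (g * gs2) ((1 : Y) : Y ⧸ S.P {i}ᶜ) := by
      rw [rho_mk, map_mul, Pi.mul_apply, hg, hgs2', mul_one]
    rcases h3 with ⟨rfl, rfl⟩ | ⟨rfl, rfl⟩
    · refine ⟨g, gs, gs2, e0, e1, e2, ?_, ?_⟩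
      · rw [hgs, hgs2]; exact h1
      · rw [hgs, hgs2]; exact h2
    · refine ⟨g, gs2, gs, e0, e2, e1, ?_, ?_⟩
      · rw [hgs, hgs2]; exact h2
      · rw [hgs, hgs2]; exact h1
  · intro x y hx hy
    obtain ⟨u, rfl⟩ := QuotientGroup.mk_surjective x
    obtain ⟨k, rfl⟩ := QuotientGroup.mk_surjective y
    rw [show QuotientGroup.mk u = ((u : Y) : Y ⧸ S.P {i}ᶜ) from rfl, c.perp_mk, inv_one, one_mul] at hx
    rw [show QuotientGroup.mk k = ((k : Y) : Y ⧸ S.P {i}ᶜ) from rfl, c.perp_mk, inv_one, one_mul] at hy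
    obtain ⟨b, hb, h3⟩ := c.trans_opp hx hy
    obtain ⟨g, -, hg⟩ := hsgN b
    refine ⟨g, ?_, ?_⟩
    · rw [rho_mk, hg, mul_one, eq_comm, QuotientGroup.eq, inv_one, one_mul]
      exact c.BP hb
    · rw [show rho e (S.P {i}ᶜ) g (QuotientGroup.mk u) = _ from rho_mk _ g u, hg, eq_comm]
      exact QuotientGroup.eq.2 h3

/-- **The index**: `|G : H| ≤ n (n + 1)` for a rank three (or 2-transitive) parabolic subgroup. -/
theorem index_le (hi : ({i} : Set I) ≠ Set.univ) :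
    H.index ≤ (S.P {i}ᶜ).index * ((S.P {i}ᶜ).index + 1) := by
  obtain ⟨t₁, g⟩ := tgeo hY q c hi
  by_cases hne : ∃ u, u ∉ D1 (S.P {i}ᶜ) s
  · have l := c.pol hne
    exact g.index_le (fun e S h1 h2 h3 => l.conn e S h1 h2 h3) (fun e e' _ h1 => l.oinj e e' h1)
  · push Not at hne
    have h1 := g.index_eq (fun x y => by
      obtain ⟨u, rfl⟩ := QuotientGroup.mk_surjective x
      obtain ⟨k, rfl⟩ := QuotientGroup.mk_surjective y
      exact c.perp_mk.2 (hne _))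
    rw [h1]
    have h2 : 0 < Nat.card (Y ⧸ S.P {i}ᶜ) := Nat.card_pos
    show _ ≤ Nat.card (Y ⧸ S.P {i}ᶜ) * (Nat.card (Y ⧸ S.P {i}ᶜ) + 1)
    nlinarith

/-- the 2-transitive case (`L_d(2)`) -/
theorem index_eq (hi : ({i} : Set I) ≠ Set.univ) (hall : ∀ u, u ∈ D1 (S.P {i}ᶜ) s) :
    H.index = (S.P {i}ᶜ).index + 1 := by
  obtain ⟨t₁, g⟩ := tgeo hY q c hi
  exact g.index_eq (fun x y => by
    obtain ⟨u, rfl⟩ := QuotientGroup.mk_surjective x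
    obtain ⟨k, rfl⟩ := QuotientGroup.mk_surjective y
    exact c.perp_mk.2 (hall _))

end

end Cfsg.Agent.H869.EPO
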