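import Cfsg.Agent.H392.TD.Eig
import Cfsg.Agent.H299.SpSixFacts
import Cfsg.Agent.S1067

/-!
# `Sp₆(2)` is not a subgroup of `³D₄(4)` (helper869)

* `no_ab27` : an abelian group of order 27 with an element of order 9 does not act faithfully on a group of order 64
  and exponent 2;
* `exists_conj` : a `p`-subgroup is conjugate into a subgroup of index prime to `p`;
* `card_td4`, `not_243`, `exists_nine`, `exists_ab27` : `³D₄(4)` has order `3⁴ m`, has elements of order 9, and an abelian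
  subgroup of order 27 with an element of order 9;
* `sp6_td4` : no subgroup `Sp₆(2)` in `³D₄(4)`.
-/

set_option autoImplicit false
set_option linter.unusedSectionVars false
set_option linter.unusedVariables false

namespace Cfsg.Agent.H869.EPO

/-! ### Free actions -/

theorem free_card {S : Type*} [Finite S] (σ : Equiv.Perm S) (h9 : σ ^ 9 = 1) (h3 : ∀ s, (σ ^ 3) s ≠ s) :
    9 ∣ Nat.card S := by
  rcases isEmpty_or_nonempty S with hS | ⟨⟨s0⟩⟩
  · rw [Nat.card_of_isEmpty]; exact dvd_zero _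
  have h3' : σ ^ 3 ≠ 1 := fun h => h3 s0 (by rw [h]; rfl)
  have ho : orderOf σ = 9 := by
    have h1 : orderOf σ ∣ 3 ^ 2 := orderOf_dvd_of_pow_eq_one (by norm_num; exact h9)
    obtain ⟨k, hk, hk'⟩ := (Nat.dvd_prime_pow Nat.prime_three).1 h1
    have h2 : ¬ orderOf σ ∣ 3 := fun h => h3' (orderOf_dvd_iff_pow_eq_one.1 h)
    interval_cases k
    · exact absurd (by rw [hk']; norm_num) h2
    · exact absurd (by rw [hk']; norm_num) h2
    · rw [hk']; norm_num
  have hst : ∀ s : S, MulAction.stabilizer (Subgroup.zpowers σ) s = ⊥ := by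
    intro s
    rw [eq_bot_iff]
    rintro ⟨g, hg⟩ h
    rw [MulAction.mem_stabilizer_iff] at h
    have hgs : g s = s := h
    rw [Subgroup.mem_bot]
    by_contra hne
    have hg1 : g ≠ 1 := fun h => hne (Subtype.ext h)
    apply h3 s
    have hσg : σ ^ 3 ∈ Subgroup.zpowers g := by
      obtain ⟨n, rfl⟩ := (mem_powers_iff_mem_zpowers.2 hg : _ ∈ Submonoid.powers σ)
      have hn : ¬ 9 ∣ n := fun h => hg1 (by
        change σ ^ n = 1
        rw [← ho] at h
        exact orderOf_dvd_iff_pow_eq_one.1 h)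
      have hgcd : Nat.gcd n 9 ∣ 3 := by
        have h1 : Nat.gcd n 9 ∣ 3 ^ 2 := by norm_num; exact Nat.gcd_dvd_right n 9
        obtain ⟨k, hk, hk'⟩ := (Nat.dvd_prime_pow Nat.prime_three).1 h1
        interval_cases k
        · rw [hk']; norm_num
        · rw [hk']; norm_num
        · exfalso
          apply hn
          have h2 := Nat.gcd_dvd_left n 9
          rw [hk'] at h2
          exact h2
      have h2 : σ ^ (Nat.gcd n 9) ∈ Subgroup.zpowers (σ ^ n) := by
        rw [← ho]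
        refine ⟨Nat.gcdA n (orderOf σ), ?_⟩
        change (σ ^ n) ^ (Nat.gcdA n (orderOf σ)) = _
        rw [← zpow_natCast σ n, ← zpow_mul]
        have h4 := Nat.gcd_eq_gcd_ab n (orderOf σ)
        have h5 : σ ^ (((Nat.gcd n (orderOf σ) : ℕ) : ℤ)) = σ ^ ((n : ℤ) * Nat.gcdA n (orderOf σ)) := by
          rw [h4, zpow_add, zpow_mul σ (orderOf σ : ℤ), zpow_natCast σ (orderOf σ), pow_orderOf_eq_one, one_zpow, mul_one]
        rw [← h5, zpow_natCast]
      obtain ⟨c, hc⟩ := hgcd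
      change σ ^ 3 ∈ Subgroup.zpowers (σ ^ n)
      rw [hc, pow_mul]
      exact Subgroup.pow_mem _ h2 c
    obtain ⟨k, hk⟩ := hσg
    rw [← hk]
    change (g ^ k) s = s
    have h5 : g ∈ MulAction.stabilizer (Equiv.Perm S) s := hgs
    exact Subgroup.zpow_mem _ h5 k
  have h := Nat.card_congr (MulAction.selfEquivOrbitsQuotientProd (G := Subgroup.zpowers σ) hst)
  rw [Nat.card_prod, Nat.card_zpowers, ho] at h
  exact ⟨_, by rw [h, mul_comm]⟩

/-- An automorphism of order dividing `9` of an elementary abelian `2`-group of order at most `32` has order dividing `3`. -/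
theorem cube_triv {W : Type*} [AddCommGroup W] [Finite W] {k : ℕ} (hW : Nat.card W = 2 ^ k) (hk : k < 6)
    (σ : W ≃+ W) (h9 : ∀ w, (σ : W → W)^[9] w = w) (w : W) : (σ : W → W)^[3] w = w := by
  classical
  let F : AddSubgroup W :=
    { carrier := {w | (σ : W → W)^[3] w = w}
      zero_mem' := by
        change (σ : W → W)^[3] 0 = 0
        simp
      add_mem' := by
        intro a b ha hb
        change (σ : W → W)^[3] (a + b) = a + b
        have ha' : (σ : W → W)^[3] a = a := ha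
        have hb' : (σ : W → W)^[3] b = b := hb
        simp only [Function.iterate_succ, Function.iterate_zero, Function.comp_apply, id_eq, map_add] at ha' hb' ⊢
        rw [ha', hb']
      neg_mem' := by
        intro a ha
        change (σ : W → W)^[3] (-a) = -a
        have ha' : (σ : W → W)^[3] a = a := ha
        simp only [Function.iterate_succ, Function.iterate_zero, Function.comp_apply, id_eq, map_neg] at ha' ⊢
        rw [ha'] }
  have hmem : ∀ w, w ∈ F ↔ (σ : W → W)^[3] w = w := fun w => Iff.rfl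
  -- the permutation on the complement
  have hst : ∀ w, w ∉ F ↔ σ w ∉ F := by
    intro w
    rw [not_iff_not, hmem, hmem]
    simp only [Function.iterate_succ, Function.iterate_zero, Function.comp_apply, id_eq]
    exact ⟨fun h => by rw [h], fun h => σ.injective h⟩
  let τ : Equiv.Perm {w : W // w ∉ F} := σ.toEquiv.subtypeEquiv hst
  have hτ : ∀ (n : ℕ) (s : {w : W // w ∉ F}), (((τ ^ n) s : {w : W // w ∉ F}) : W) = (σ : W → W)^[n] s := by
    intro n
    induction n with
    | zero => intro s; rfl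
    | succ n ih =>
      intro s
      rw [pow_succ', Equiv.Perm.mul_apply, Function.iterate_succ_apply', ← ih]
      rfl
  have hc := free_card τ (Equiv.ext fun s => Subtype.ext (by rw [hτ, h9]; rfl)) (fun s hs => s.2 (by
    rw [hmem, ← hτ 3 s, hs]))
  have hcF : Nat.card F ∣ 2 ^ k := by rw [← hW]; exact AddSubgroup.card_addSubgroup_dvd_card F
  obtain ⟨j, hjk, hj⟩ := (Nat.dvd_prime_pow Nat.prime_two).1 hcF
  have hsum : Nat.card {w : W // w ∉ F} = 2 ^ k - 2 ^ j := by
    have : Fintype W := Fintype.ofFinite W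
    have h2 : Fintype.card {w : W // w ∉ F} = Fintype.card W - Fintype.card {w : W // w ∈ F} :=
      Fintype.card_subtype_compl _
    rw [Nat.card_eq_fintype_card, h2, ← Nat.card_eq_fintype_card, ← Nat.card_eq_fintype_card, hW]
    congr 1
  rw [hsum] at hc
  have hkj : j = k := by
    by_contra hne
    have hlt : j < k := lt_of_le_of_ne hjk hne
    interval_cases k <;> interval_cases j <;> omega
  have htop : F = ⊤ := AddSubgroup.eq_top_of_card_eq F (by rw [hj, hW, hkj])
  have : w ∈ F := by rw [htop]; trivial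
  exact this

section act

variable {V : Type*} [AddCommGroup V] {A : Type*} [CommGroup A] (ρ : A → V ≃+ V) (h1 : ∀ v, ρ 1 v = v)
  (hm : ∀ a b v, ρ (a * b) v = ρ a (ρ b v))

include h1 hm in
theorem rho_pow (a : A) (n : ℕ) (v : V) : ρ (a ^ n) v = (ρ a : V → V)^[n] v := by
  induction n with
  | zero => rw [pow_zero, h1]; rfl
  | succ n ih => rw [pow_succ', hm, ih, Function.iterate_succ_apply']

include h1 hm in
/-- **An abelian group of order 27 with an element of order 9 does not act faithfully on `2⁶`.** -/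
theorem no_ab27 [Finite V] (hV : Nat.card V = 2 ^ 6) (h2 : ∀ v : V, v + v = 0)
    [Finite A] (hA : Nat.card A = 27) (x : A) (hx : orderOf x = 9) (hinj : ∀ a, (∀ v, ρ a v = v) → a = 1) :
    False := by
  classical
  let _ : MulAction A {v : V // v ≠ 0} :=
    { smul := fun a v => ⟨ρ a v, fun h => v.2 ((ρ a).injective (h.trans (map_zero (ρ a)).symm))⟩
      one_smul := fun v => Subtype.ext (h1 v)
      mul_smul := fun a b v => Subtype.ext (hm a b v) }
  have hcS : Nat.card {v : V // v ≠ 0} = 63 := by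
    have : Fintype V := Fintype.ofFinite V
    have h3 : Fintype.card {v : V // v ≠ 0} = Fintype.card V - 1 := by
      rw [Fintype.card_subtype_compl, Fintype.card_subtype_eq]
    rw [Nat.card_eq_fintype_card, h3, ← Nat.card_eq_fintype_card, hV]
    norm_num
  obtain ⟨v, hv⟩ : ∃ v : {v : V // v ≠ 0}, MulAction.stabilizer A v ≠ ⊥ := by
    by_contra hcon
    push Not at hcon
    have h := Nat.card_congr (MulAction.selfEquivOrbitsQuotientProd (G := A) hcon)
    rw [Nat.card_prod, hA, hcS] at h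
    omega
  obtain ⟨⟨a, ha⟩, ha1'⟩ := Subgroup.ne_bot_iff_exists_ne_one.1 hv
  have ha1 : a ≠ 1 := fun h => ha1' (Subtype.ext h)
  have hav : ρ a (v : V) = v := congrArg Subtype.val (MulAction.mem_stabilizer_iff.1 ha)
  -- the fixed points of `a`
  let W : AddSubgroup V :=
    { carrier := {w | ρ a w = w}
      zero_mem' := map_zero (ρ a)
      add_mem' := by
        intro u w hu hw
        change ρ a (u + w) = u + w
        rw [map_add, show ρ a u = u from hu, show ρ a w = w from hw]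
      neg_mem' := by
        intro u hu
        change ρ a (-u) = -u
        rw [map_neg, show ρ a u = u from hu] }
  have hWm : ∀ w, w ∈ W ↔ ρ a w = w := fun w => Iff.rfl
  have hWx : ∀ w, w ∈ W ↔ ρ x w ∈ W := by
    intro w
    rw [hWm, hWm, ← hm, mul_comm a x, hm]
    exact ⟨fun h => by rw [h], fun h => (ρ x).injective h⟩
  have hWd : Nat.card W ∣ 2 ^ 6 := by rw [← hV]; exact AddSubgroup.card_addSubgroup_dvd_card W
  obtain ⟨k, hk6, hk⟩ := (Nat.dvd_prime_pow Nat.prime_two).1 hWd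
  have hkne : k ≠ 6 := by
    rintro rfl
    apply ha1
    apply hinj
    intro w
    have : W = ⊤ := AddSubgroup.eq_top_of_card_eq W (by rw [hk, hV])
    rw [← hWm, this]
    trivial
  have hk0 : k ≠ 0 := by
    rintro rfl
    rw [pow_zero] at hk
    have h3 : W = ⊥ := AddSubgroup.eq_bot_of_card_eq W hk
    have h4 : (v : V) ∈ W := hav
    rw [h3, AddSubgroup.mem_bot] at h4
    exact v.2 h4
  have hx9 : ∀ w, (ρ x : V → V)^[9] w = w := by
    intro w
    rw [← rho_pow ρ h1 hm, ← hx, pow_orderOf_eq_one, h1]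
  -- on `W`
  let σ : W ≃+ W :=
    { toFun := fun w => ⟨ρ x w, (hWx w).1 w.2⟩
      invFun := fun w => ⟨(ρ x).symm w, by rw [hWx, AddEquiv.apply_symm_apply]; exact w.2⟩
      left_inv := fun w => Subtype.ext (by simp)
      right_inv := fun w => Subtype.ext (by simp)
      map_add' := fun u w => Subtype.ext (by simp) }
  have hσ : ∀ (n : ℕ) (w : W), (((σ : W → W)^[n] w : W) : V) = (ρ x : V → V)^[n] w := by
    intro n
    induction n with
    | zero => intro w; rfl
    | succ n ih => intro w; rw [Function.iterate_succ_apply', Function.iterate_succ_apply', ← ih]; rfl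
  have hW3 : ∀ w ∈ W, (ρ x : V → V)^[3] w = w := by
    intro w hw
    have h3 := cube_triv hk (by omega) σ (fun w => Subtype.ext (by rw [hσ, hx9])) ⟨w, hw⟩
    have h4 := congrArg Subtype.val h3
    rw [hσ] at h4
    exact h4
  -- on `V ⧸ W`
  have hcQ : Nat.card (V ⧸ W) = 2 ^ (6 - k) := by
    have h3 := AddSubgroup.card_eq_card_quotient_mul_card_addSubgroup W
    rw [hV, hk] at h3
    have h4 : (2 : ℕ) ^ 6 = 2 ^ (6 - k) * 2 ^ k := by rw [← pow_add]; congr 1; omega
    rw [h4] at h3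
    exact (Nat.eq_of_mul_eq_mul_right (pow_pos (by norm_num) k) h3).symm
  let τ : V ⧸ W ≃+ V ⧸ W := QuotientAddGroup.congr W W (ρ x) (by
    ext w
    rw [AddSubgroup.mem_map]
    constructor
    · rintro ⟨u, hu, rfl⟩
      exact (hWx u).1 hu
    · intro hw
      refine ⟨(ρ x).symm w, ?_, by simp⟩
      rw [hWx, AddEquiv.apply_symm_apply]
      exact hw)
  have hτ : ∀ (n : ℕ) (w : V), ((τ : V ⧸ W → V ⧸ W)^[n] (w : V ⧸ W)) = (((ρ x : V → V)^[n] w : V) : V ⧸ W) := by
    intro n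
    induction n with
    | zero => intro w; rfl
    | succ n ih => intro w; rw [Function.iterate_succ_apply', Function.iterate_succ_apply', ih]; rfl
  have hQ3 : ∀ w : V, (ρ x : V → V)^[3] w - w ∈ W := by
    intro w
    have h3 := cube_triv hcQ (by omega) τ (fun w => by
      induction w using QuotientAddGroup.induction_on with
      | H w => rw [hτ, hx9]) (w : V ⧸ W)
    rw [hτ] at h3
    rw [← QuotientAddGroup.eq_zero_iff, QuotientAddGroup.mk_sub, h3, sub_self]
  -- `x³` has order dividing 2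
  have hy : ∀ w : V, ρ (x ^ 3) w = (ρ x : V → V)^[3] w := fun w => rho_pow ρ h1 hm x 3 w
  have hy2 : (x ^ 3) ^ 2 = 1 := by
    apply hinj
    intro w
    rw [pow_two, hm]
    have h3 := hW3 _ (hQ3 w)
    rw [← hy, ← hy, map_sub, sub_eq_iff_eq_add] at h3
    rw [h3]
    have h4 : ρ (x ^ 3) w - w + ρ (x ^ 3) w = (ρ (x ^ 3) w + ρ (x ^ 3) w) - w := by abel
    rw [h4, h2, zero_sub, neg_eq_iff_add_eq_zero, h2]
  have h3 : orderOf x ∣ 3 * 2 := orderOf_dvd_of_pow_eq_one (by rw [pow_mul]; exact hy2)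
  rw [hx] at h3
  revert h3
  decide

end act

/-! ### Conjugation into a subgroup of index prime to `p` -/

open scoped Pointwise in
theorem exists_conj {G : Type*} [Group G] [Finite G] {p : ℕ} [Fact p.Prime] {H : Subgroup G} (hH : ¬ p ∣ H.index)
    {A : Subgroup G} (hA : IsPGroup p A) : ∃ g : G, ∀ a ∈ A, g * a * g⁻¹ ∈ H := by
  obtain ⟨Q, hQ⟩ := hA.exists_le_sylow
  obtain ⟨P⟩ := (inferInstance : Nonempty (Sylow p H))
  have hP1 : IsPGroup p (P.1.map H.subtype) := P.2.map H.subtype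
  have hP2 : ¬ p ∣ (P.1.map H.subtype).index := by
    rw [Subgroup.index_map_subtype]
    intro h
    rcases (Nat.Prime.dvd_mul Fact.out).1 h with h | h
    · exact P.not_dvd_index' (Subgroup.index_ne_zero_of_finite) h
    · exact hH h
  let R : Sylow p G := hP1.toSylow hP2
  obtain ⟨g, hg⟩ := MulAction.exists_smul_eq G Q R
  refine ⟨g, fun a ha => ?_⟩
  have h3 : g * a * g⁻¹ ∈ (R : Subgroup G) := by
    rw [← hg]
    have h4 : MulAut.conj g • a ∈ MulAut.conj g • (Q : Subgroup G) := Subgroup.smul_mem_pointwise_smul _ _ _ (hQ ha)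
    exact h4
  exact Subgroup.map_subtype_le _ h3

/-! ### `³D₄(4)` -/

open Cfsg.Lie Cfsg.Agent.ChevalleyStructure Cfsg.Agent.H392.TD in
/-- **The torus of `³D₄(q)`**: commutative, of order `(q - 1)(q³ - 1)`, with an element of order `q³ - 1`. -/
theorem tor_td4 {K : Type*} [Field K] [Fintype K] {q : ℕ} (hq : IsPrimePow q) (hK : Fintype.card K = q ^ 3) :
    ∃ T : Subgroup ↥(twistedD4 K q), (∀ x ∈ T, ∀ y ∈ T, x * y = y * x) ∧ Nat.card T = (q - 1) * (q ^ 3 - 1) ∧
      ∃ x ∈ T, orderOf x = q ^ 3 - 1 := by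
  classical
  obtain ⟨φ, hφ⟩ := D4Fixed.exists_frob hq hK
  have hc := D4H1.card_H1 hq hK hφ
  obtain ⟨g, hg⟩ := IsCyclic.exists_generator (α := Kˣ)
  have ho : orderOf g = q ^ 3 - 1 := by
    rw [orderOf_eq_card_of_forall_mem_zpowers hg, Nat.card_eq_fintype_card, Fintype.card_units, hK]
  refine ⟨Nodes.RGDTwD4.T K q, fun x hx y hy => T_comm x hx y hy, ?_, hB hφ g, hB_mem hφ g, ?_⟩
  · rw [← hc]
    exact Nat.card_congr (Subgroup.subgroupOfEquivOfLe inf_le_right).toEquiv
  · rw [← ho]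
    have hinj : ∀ s : Kˣ, hB hφ s = 1 → s = 1 := by
      intro s hs
      have hel : ∀ t : Kˣ, D4H1.hel φ t 1 = (hB hφ t : GL chevD4.Idx K) := by
        intro t
        rw [D4H1.hel_eq, wU_hWord' (by norm_num), wU_hWord' (by norm_num), wU_hWord' (by norm_num),
          wU_hWord' (by norm_num), Units.val_one, hR_one (by norm_num), mul_one]
        rfl
      have h1 : D4H1.hel φ s 1 = D4H1.hel φ 1 1 := by
        rw [hel, hel, hs, hB_one]
      exact (D4H1.hel_injective (map_one φ) (map_one φ) h1).1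
    refine Nat.dvd_antisymm (orderOf_dvd_of_pow_eq_one ?_) (orderOf_dvd_of_pow_eq_one (hinj _ ?_))
    · rw [hB_pow, pow_orderOf_eq_one, hB_one]
    · rw [← hB_pow, pow_orderOf_eq_one]

section four

variable {K : Type*} [Field K] [Fintype K] (hK : Fintype.card K = 64)

include hK

theorem card_td4 : Nat.card ↥(Lie.twistedD4 K 4) = 3 ^ 4 * 837066057318400 := by
  rw [S1067.result (q := 4) ⟨2, 2, Nat.prime_two.prime, by norm_num, by norm_num⟩ (by rw [hK]; norm_num)]
  norm_num

theorem not_243 : ¬ 3 ^ 5 ∣ Nat.card ↥(Lie.twistedD4 K 4) := by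
  rw [card_td4 hK]
  norm_num

theorem exists_ab27 : ∃ A : Subgroup ↥(Lie.twistedD4 K 4), (∀ x ∈ A, ∀ y ∈ A, x * y = y * x) ∧ Nat.card A = 27 ∧
    ∃ x ∈ A, orderOf x = 9 := by
  obtain ⟨T, hTc, hT, x, hx, hxo⟩ := tor_td4 (q := 4) ⟨2, 2, Nat.prime_two.prime, by norm_num, by norm_num⟩
    (by rw [hK]; norm_num : Fintype.card K = 4 ^ 3)
  have hf : Finite ↥(Lie.twistedD4 K 4) := Nat.finite_of_card_ne_zero (by rw [card_td4 hK]; norm_num)
  norm_num at hT hxo
  have : Fact (Nat.Prime 3) := ⟨Nat.prime_three⟩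
  have hx7 : orderOf (x ^ 7) = 9 := by
    rw [orderOf_pow, hxo]
    norm_num
  have hPx : IsPGroup 3 (Subgroup.zpowers (⟨x ^ 7, T.pow_mem hx 7⟩ : T)) := by
    apply IsPGroup.of_card (n := 2)
    rw [Nat.card_zpowers, Subgroup.orderOf_mk, hx7]
    norm_num
  obtain ⟨P, hP⟩ := hPx.exists_le_sylow
  have hPc : Nat.card P = 27 := by
    obtain ⟨n, hn⟩ := IsPGroup.iff_card.1 P.2
    have h1 : Nat.card P.1 ∣ 189 := by rw [← hT]; exact P.1.card_subgroup_dvd_card
    have h2 : 3 ^ 3 ∣ Nat.card P := P.pow_dvd_card_of_pow_dvd_card (by rw [hT]; norm_num)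
    change 3 ^ 3 ∣ Nat.card P.1 at h2
    change Nat.card P.1 = 27
    rw [hn] at h1 h2 ⊢
    have h3 : n ≤ 4 := by
      by_contra h
      have h4 : 3 ^ 5 ≤ 3 ^ n := Nat.pow_le_pow_right (by norm_num) (by omega)
      have h5 := Nat.le_of_dvd (by norm_num) h1
      omega
    interval_cases n
    · norm_num at h2
    · norm_num at h2
    · norm_num at h2
    · norm_num
    · norm_num at h1
  refine ⟨P.1.map T.subtype, ?_, ?_, x ^ 7, ?_, hx7⟩
  · rintro _ ⟨a, -, rfl⟩ _ ⟨b, -, rfl⟩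
    exact hTc _ a.2 _ b.2
  · rw [Nat.card_congr (P.1.equivMapOfInjective _ T.subtype_injective).symm.toEquiv]
    exact hPc
  · exact ⟨⟨x ^ 7, T.pow_mem hx 7⟩, hP (Subgroup.mem_zpowers _), rfl⟩

theorem exists_nine : ∃ x : ↥(Lie.twistedD4 K 4), orderOf x = 9 := by
  obtain ⟨-, -, -, x, -, hx⟩ := exists_ab27 hK
  exact ⟨x, hx⟩

/-- **A subgroup of order divisible by `3⁴` contains an abelian subgroup of order 27 with an element of order 9.** -/
theorem sub_ab27 {X : Type*} [Group X] (f : X →* ↥(Lie.twistedD4 K 4)) (hf : Function.Injective f)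
    (hX : 3 ^ 4 ∣ Nat.card X) : ∃ A : Subgroup X, (∀ x ∈ A, ∀ y ∈ A, x * y = y * x) ∧ Nat.card A = 27 ∧
    ∃ x ∈ A, orderOf x = 9 := by
  obtain ⟨A, hAc, hA, x, hx, hxo⟩ := exists_ab27 hK
  have hfin : Finite ↥(Lie.twistedD4 K 4) := Nat.finite_of_card_ne_zero (by rw [card_td4 hK]; norm_num)
  have : Fact (Nat.Prime 3) := ⟨Nat.prime_three⟩
  have hH : ¬ 3 ∣ f.range.index := by
    intro h
    have h1 := f.range.card_mul_index
    rw [Nat.card_congr (MonoidHom.ofInjective hf).symm.toEquiv] at h1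
    obtain ⟨a, ha⟩ := hX
    obtain ⟨b, hb⟩ := h
    exact not_243 hK ⟨a * b, by rw [← h1, ha, hb]; ring⟩
  have hAp : IsPGroup 3 A := IsPGroup.of_card (n := 3) (by rw [hA]; norm_num)
  obtain ⟨g, hg⟩ := exists_conj hH hAp
  have hgx : ∀ a ∈ A, ∃ y, f y = g * a * g⁻¹ := fun a ha => hg a ha
  -- the preimage
  let e : ↥(Lie.twistedD4 K 4) ≃* ↥(Lie.twistedD4 K 4) := MulAut.conj g
  have he : ∀ a, e a = g * a * g⁻¹ := fun a => rfl
  let B : Subgroup X := (A.map e.toMonoidHom).comap f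
  have hB : ∀ y, y ∈ B ↔ ∃ a ∈ A, g * a * g⁻¹ = f y := fun y => Iff.rfl
  have hmap : B.map f = A.map e.toMonoidHom := by
    apply le_antisymm
    · rintro _ ⟨y, hy, rfl⟩
      exact hy
    · rintro _ ⟨a, ha, rfl⟩
      obtain ⟨y, hy⟩ := hgx a ha
      exact ⟨y, ⟨a, ha, hy.symm⟩, hy⟩
  refine ⟨B, ?_, ?_, ?_⟩
  · intro y hy z hz
    obtain ⟨a, ha, hay⟩ := (hB y).1 hy
    obtain ⟨b, hb, hbz⟩ := (hB z).1 hz
    apply hf
    rw [map_mul, map_mul, ← hay, ← hbz]
    have h := hAc a ha b hb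
    calc g * a * g⁻¹ * (g * b * g⁻¹) = g * (a * b) * g⁻¹ := by group
      _ = g * (b * a) * g⁻¹ := by rw [h]
      _ = _ := by group
  · rw [Nat.card_congr (B.equivMapOfInjective f hf).toEquiv, hmap,
      Nat.card_congr (A.equivMapOfInjective e.toMonoidHom e.injective).symm.toEquiv, hA]
  · obtain ⟨y, hy⟩ := hgx x hx
    refine ⟨y, ⟨x, hx, hy.symm⟩, ?_⟩
    rw [← orderOf_injective f hf, hy, ← he, MulEquiv.orderOf_eq e, hxo]

/-- **No `Sp₆(2)` in `³D₄(4)`.** -/
theorem sp6_td4 {F : Type*} [Field F] [Fintype F] (hF : Fintype.card F = 2) {T : Type*} [Group T]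
    (e : T ≃* PSp 3 F) (f : T →* ↥(Lie.twistedD4 K 4)) (hf : Function.Injective f) : False := by
  let eT : T ≃* Matrix.symplecticGroup (Fin 3) (ZMod 2) :=
    (e.trans (LieClassical.FieldTransfer.pspCongr 3 (ZMod.ringEquivOfPrime F Nat.prime_two hF).symm)).trans
      H299.SpSix.toSp
  have hcT : Nat.card T = 1451520 := by rw [Nat.card_congr eT.toEquiv, H299.SpSix.card_S6]
  obtain ⟨A, hAc, hA, x, hx, hxo⟩ := sub_ab27 hK f hf (by rw [hcT]; norm_num)
  have hmul : ∀ (a b : T) (v : Fin 3 ⊕ Fin 3 → ZMod 2),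
      (eT (a * b) : Matrix (Fin 3 ⊕ Fin 3) (Fin 3 ⊕ Fin 3) (ZMod 2)).mulVec v =
        (eT a : Matrix (Fin 3 ⊕ Fin 3) (Fin 3 ⊕ Fin 3) (ZMod 2)).mulVec
          ((eT b : Matrix (Fin 3 ⊕ Fin 3) (Fin 3 ⊕ Fin 3) (ZMod 2)).mulVec v) := by
    intro a b v
    rw [Matrix.mulVec_mulVec, map_mul]
    rfl
  have hone : ∀ v : Fin 3 ⊕ Fin 3 → ZMod 2,
      (eT 1 : Matrix (Fin 3 ⊕ Fin 3) (Fin 3 ⊕ Fin 3) (ZMod 2)).mulVec v = v := by
    intro v
    rw [map_one]
    exact Matrix.one_mulVec v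
  let ρ : A → (Fin 3 ⊕ Fin 3 → ZMod 2) ≃+ (Fin 3 ⊕ Fin 3 → ZMod 2) := fun a =>
    { toFun := fun v => (eT a : Matrix (Fin 3 ⊕ Fin 3) (Fin 3 ⊕ Fin 3) (ZMod 2)).mulVec v
      invFun := fun v => (eT (a : T)⁻¹ : Matrix (Fin 3 ⊕ Fin 3) (Fin 3 ⊕ Fin 3) (ZMod 2)).mulVec v
      left_inv := fun v => by
        change (eT (a : T)⁻¹ : Matrix (Fin 3 ⊕ Fin 3) (Fin 3 ⊕ Fin 3) (ZMod 2)).mulVec
          ((eT (a : T) : Matrix (Fin 3 ⊕ Fin 3) (Fin 3 ⊕ Fin 3) (ZMod 2)).mulVec v) = v
        rw [← hmul, inv_mul_cancel, hone]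
      right_inv := fun v => by
        change (eT (a : T) : Matrix (Fin 3 ⊕ Fin 3) (Fin 3 ⊕ Fin 3) (ZMod 2)).mulVec
          ((eT (a : T)⁻¹ : Matrix (Fin 3 ⊕ Fin 3) (Fin 3 ⊕ Fin 3) (ZMod 2)).mulVec v) = v
        rw [← hmul, mul_inv_cancel, hone]
      map_add' := fun u v => Matrix.mulVec_add _ u v }
  let _ : CommGroup A := { (inferInstance : Group A) with mul_comm := fun a b => Subtype.ext (hAc _ a.2 _ b.2) }
  have hfA : Finite A := Nat.finite_of_card_ne_zero (by rw [hA]; norm_num)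
  refine no_ab27 (V := Fin 3 ⊕ Fin 3 → ZMod 2) (A := A) ρ hone (fun a b v => hmul a b v) ?_ ?_ hA ⟨x, hx⟩ ?_ ?_
  · rw [Nat.card_eq_fintype_card, Fintype.card_fun, ZMod.card, Fintype.card_sum, Fintype.card_fin]
  · intro v
    funext i
    exact CharTwo.add_self_eq_zero (v i)
  · rw [Subgroup.orderOf_mk, hxo]
  · intro a ha
    apply Subtype.ext
    apply eT.injective
    rw [Subgroup.coe_one, map_one]
    apply H299.SpSix.rep_eq
    intro v
    rw [show (eT (a : T) : Matrix (Fin 3 ⊕ Fin 3) (Fin 3 ⊕ Fin 3) (ZMod 2)).mulVec v = v from ha v]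
    exact (Matrix.one_mulVec v).symm

end four

end Cfsg.Agent.H869.EPO
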